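import Cfsg.Agent.Lib.Helper2.BG12G
import Cfsg.Agent.Lib.Helper68.BG10F

/-!
Bender-Glauberman 13.9 (statement S1378, the `σ`-partition): definitions for the ladder BG139.
`Texts G` bundles the texts of the lower statements that are used; `Cfg q M N S` is the configuration
of a counterexample, `Cfg2` the configuration with the subgroup `P` of prime order.
-/

set_option autoImplicit false
set_option linter.unusedSectionVars false

namespace Cfsg.Agent.Lib.Helper2.BG139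

open Subgroup Cfsg.Agent.Lib.Helper30 Cfsg.Agent.Lib.Helper2 Cfsg.Agent.Lib.Helper2.BG12
  Cfsg.Agent.Lib.Helper68

universe u

variable {G : Type u} [Group G]

/-- the text of S1404 -/
def T1404 (G : Type u) [Group G] : Prop :=
  ∀ (M : Subgroup G), IsCoatom M → ∀ (p : ℕ) [Fact p.Prime], p ∈ Cfsg.sigma M →
    ∀ X : Subgroup G, IsPGroup p X → X ≠ ⊥ → X ≤ M →
    (∀ g : G, X.map (MulAut.conj g).toMonoidHom ≤ M →
        ∃ m ∈ M, ∃ c ∈ Subgroup.centralizer (X : Set G), g = m * c) ∧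
      Subgroup.normalizer (X : Set G) =
        (M ⊓ Subgroup.normalizer (X : Set G)) ⊔ Subgroup.centralizer (X : Set G)

/-- the text of S1409 (first part) -/
def T1409 (G : Type u) [Group G] : Prop :=
  ∀ (M : Subgroup G), IsCoatom M → ∀ (p : ℕ) [Fact p.Prime], p ∉ Cfsg.sigma M →
    ∀ X : Subgroup G, Nat.card X = p → Subgroup.normalizer (X : Set G) ≤ M →
    Cfsg.PRankLE p 2 M ∧ ¬ Cfsg.PRankLE p 1 M

/-- the text of S1411 (first part) -/
def T1411 (G : Type u) [Group G] : Prop :=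
  ∀ (p : ℕ) [Fact p.Prime] (P : Sylow p G) (V : Subgroup G),
    Cfsg.IsComplIn (P : Subgroup G) V (Subgroup.normalizer ((P : Subgroup G) : Set G)) →
    (P : Subgroup G) = ⁅(P : Subgroup G), V⁆

/-- the parts of the text of S1414 that are used -/
def T1414 (G : Type u) [Group G] : Prop :=
  ∀ M : Subgroup G, IsCoatom M →
    Cfsg.IsPiHallOf (Cfsg.beta M) (Cfsg.piCoreOf (Cfsg.beta M) M) M ∧
      ∃ H : Subgroup G, Cfsg.IsPiHallOf {q | q.Prime ∧ q ∉ Cfsg.beta M} H (Cfsg.sigmaCore M) ∧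
        Group.IsNilpotent H

/-- the text of S1415 -/
def T1415 (G : Type u) [Group G] : Prop :=
  ∀ (M : Subgroup G), IsCoatom M → ∀ E : Subgroup G, Cfsg.IsComplIn E (Cfsg.sigmaCore M) M →
    Group.IsNilpotent ↥⁅E, E⁆ ∧
      (∀ E₁ : Subgroup G, Cfsg.IsPiHallOf (Cfsg.tau1 M) E₁ E → IsCyclic E₁) ∧
      ∀ E₃ : Subgroup G, Cfsg.IsPiHallOf (Cfsg.tau3 M) E₃ E →
        IsCyclic E₃ ∧ E₃ ≤ ⁅E, E⁆ ∧ E ≤ Subgroup.normalizer (E₃ : Set G)

/-- the text of S1423 -/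
def T1423 (G : Type u) [Group G] : Prop :=
  ∀ (M : Subgroup G), IsCoatom M → ∀ (p : ℕ) [Fact p.Prime], p ∈ Cfsg.sigma M →
    ∀ X : Subgroup G, X ≤ M → Nat.card X = p → ∀ P : Sylow p ↥(Cfsg.sigmaCore M),
    (p ∈ Cfsg.beta M ∨ X ≤ ⁅Cfsg.sigmaCore M, Cfsg.sigmaCore M⁆) →
    (Subgroup.centralizer (X : Set G) ≤ M ∧
        ∀ L : Subgroup G, IsCoatom L → Subgroup.centralizer (X : Set G) ≤ L → L = M) ∧
      Cfsg.InUniqueMaximal ((P : Subgroup ↥(Cfsg.sigmaCore M)).map (Cfsg.sigmaCore M).subtype) ∧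
      (P : Subgroup ↥(Cfsg.sigmaCore M)).map (Cfsg.sigmaCore M).subtype ≤ M

/-- the text of S1427 -/
def T1427 (G : Type u) [Group G] : Prop :=
  ∀ (M : Subgroup G), IsCoatom M → ∀ E : Subgroup G, Cfsg.IsComplIn E (Cfsg.sigmaCore M) M →
    ∀ (p : ℕ) [Fact p.Prime] (S : Sylow p E), (S : Subgroup E) ≠ ⊥ → IsCyclic (S : Subgroup E) →
    ∀ x ∈ (S : Subgroup E).map E.subtype, x ≠ 1 →
      Cfsg.sigmaCore M ⊓ Subgroup.centralizer ({x} : Set G) =
        Cfsg.sigmaCore M ⊓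
          Subgroup.centralizer (((S : Subgroup E).map E.subtype : Subgroup G) : Set G)

/-- the text of S1428 -/
def T1428 (G : Type u) [Group G] : Prop :=
  ∀ (M : Subgroup G), IsCoatom M → ∀ E : Subgroup G, Cfsg.IsComplIn E (Cfsg.sigmaCore M) M →
    ∀ p : ℕ, p ∈ Cfsg.tau1 M → ∀ P : Subgroup G, P ≤ E → Nat.card P = p →
    ∀ R : Subgroup G, R ≤ E ⊓ Subgroup.centralizer (P : Set G) → (Nat.card R).Prime →
    Cfsg.sigmaCore M ⊓ Subgroup.centralizer (P : Set G) ≤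
      Cfsg.sigmaCore M ⊓ Subgroup.centralizer (R : Set G)

/-- All the texts used in the proof of B-G 13.9. -/
structure Texts (G : Type u) [Group G] : Prop where
  hG : Cfsg.IsMinSimpleOddOrder G
  hU : UT G
  t04 : T1404 G
  t05 : T1405 G
  t05n : T1405n G
  t06 : T1406 G
  t09 : T1409 G
  t11 : T1411 G
  t14 : T1414 G
  t15 : T1415 G
  t17 : T1417ac G
  t22 : T1422 G
  t23 : T1423 G
  t27 : T1427 G
  t28 : T1428 G
  t50 : T1350a G

/-- The configuration of a counterexample to 13.9: `M`, `N` maximal, not conjugate, `q ∈ σ(M) ∩ σ(N)`,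
`S` a Sylow `q`-subgroup of `G` with `N_G(S) ≤ M ∩ N`. -/
structure Cfg (q : ℕ) (M N S : Subgroup G) : Prop where
  hM : IsCoatom M
  hN : IsCoatom N
  hnc : ∀ g : G, N ≠ cj g M
  hqM : q ∈ Cfsg.sigma M
  hqN : q ∈ Cfsg.sigma N
  hS : IsSylowIn q S ⊤
  hDM : normalizer (S : Set G) ≤ M
  hDN : normalizer (S : Set G) ≤ N

theorem Cfg.symm {q : ℕ} {M N S : Subgroup G} (h : Cfg q M N S) : Cfg q N M S where
  hM := h.hN
  hN := h.hM
  hnc := fun g hg => h.hnc g⁻¹ (by rw [hg, cj_inv_cj])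
  hqM := h.hqN
  hqN := h.hqM
  hS := h.hS
  hDM := h.hDN
  hDN := h.hDM

/-- The configuration with a subgroup `P ≤ N_G(S)` of prime order `p ∉ σ(M) ∪ σ(N)` acting fixed point
freely on `S`. -/
structure Cfg2 (q p : ℕ) (M N S P : Subgroup G) : Prop extends Cfg q M N S where
  hPD : P ≤ normalizer (S : Set G)
  hP : Nat.card P = p
  hpp : p.Prime
  hpM : p ∉ Cfsg.sigma M
  hpN : p ∉ Cfsg.sigma N
  hfpf : S ⊓ centralizer (P : Set G) = ⊥

theorem Cfg2.symm {q p : ℕ} {M N S P : Subgroup G} (h : Cfg2 q p M N S P) : Cfg2 q p N M S P where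
  toCfg := h.toCfg.symm
  hPD := h.hPD
  hP := h.hP
  hpp := h.hpp
  hpM := h.hpN
  hpN := h.hpM
  hfpf := h.hfpf

end Cfsg.Agent.Lib.Helper2.BG139
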