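import Cfsg.Agent.Lib.Helper2.BG96E
import Cfsg.Agent.Lib.Helper1.Cores

/-!
Bender-Glauberman Theorem 9.6 (statement S1402): rung R3, the assembly.  Conditional on the
`p`-group rung `R2a`.
-/

set_option autoImplicit false
set_option linter.unusedSectionVars false

namespace Cfsg.Agent.Lib.Helper2.BG96

open Subgroup Cfsg.Agent.Lib.Helper30 Cfsg.Agent.Lib.Helper28 Cfsg.Agent.Lib.Helper2

universe u

variable {G : Type u} [Group G] [Finite G]

theorem pi_of_pgroups {p : ℕ} [hp : Fact p.Prime] {A T : Subgroup G} (hA : IsPGroup p A) (hA1 : A ≠ ⊥)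
    (hT : IsPGroup p T) : ∀ r : ℕ, r.Prime → r ∣ Nat.card T → r ∣ Nat.card A := by
  intro r hr hd
  obtain ⟨n, hn⟩ := IsPGroup.iff_card.mp hT
  rw [hn] at hd
  have h1 : r = p := (Nat.prime_dvd_prime_iff_eq hr hp.out).mp (hr.dvd_of_dvd_pow hd)
  rw [h1]
  exact dvd_card_of_isPGroup_ne_bot hA hA1

theorem not_dvd_card_pgroup {p r : ℕ} [hp : Fact p.Prime] [hr : Fact r.Prime] (hrp : r ≠ p)
    {A : Subgroup G} (hA : IsPGroup p A) : ¬ r ∣ Nat.card A := by
  intro hd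
  obtain ⟨n, hn⟩ := IsPGroup.iff_card.mp hA
  rw [hn] at hd
  exact hrp ((Nat.prime_dvd_prime_iff_eq hr.out hp.out).mp (hr.out.dvd_of_dvd_pow hd))

/-- `P ∩ H' ≤ (H ∩ N(R))'` for a maximal `P`-invariant `r`-subgroup `R`. -/
theorem inf_commutator_le_of_maxInv (hG : Cfsg.IsMinSimpleOddOrder G) {p r : ℕ} [hp : Fact p.Prime]
    [hr : Fact r.Prime] (hrp : r ≠ p) {A P H R : Subgroup G} (hTH : Cfsg.TransitivityHypothesis A)
    (hAc : IsMulCommutative A) (hZ : ¬ Cfsg.RankLE 2 ↥(A ⊓ centralizer (A : Set G)))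
    (hP : IsSylowIn p P H) (hAP : A ≤ P) (hPA : P ≤ normalizer (A : Set G)) (hH : IsCoatom H)
    (hCA : centralizer (A : Set G) ≤ H) (hR : R ∈ Cfsg.maxInvSubgroups ⊤ P {r}) :
    P ⊓ ⁅H, H⁆ ≤ ⁅H ⊓ normalizer (R : Set G), H ⊓ normalizer (R : Set G)⁆ := by
  have hsol := solvable_of_ne_top hG hH.1
  have hodd : Odd (Nat.card H) := Odd.of_dvd_nat hG.1 (Subgroup.card_subgroup_dvd_card H)
  have hPp := hP.isPGroup
  have hAp : IsPGroup p A := hPp.to_le hAP
  have hA1 := hTH.1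
  obtain ⟨T, hAT, hTP, hPT, hfac⟩ := exists_T hsol hodd hP hAP hAc hPA
  have hTp : IsPGroup p T := hPp.to_le hTP
  have hrA : ¬ r ∣ Nat.card A := not_dvd_card_pgroup hrp hAp
  have htr : ∀ Q₁ ∈ Cfsg.maxInvSubgroups ⊤ A {r}, ∀ Q₂ ∈ Cfsg.maxInvSubgroups ⊤ A {r},
      ∃ k ∈ transK A, Q₂ = cj k Q₁ := fun Q₁ h₁ Q₂ h₂ => kconj_of_rank_three hG hTH hZ hrA h₁ h₂
  have hsnP : (A.subgroupOf P).IsSubnormal := by
    have : Group.IsNilpotent P := hPp.isNilpotent
    exact Cfsg.Agent.Lib.Helper52.isSubnormal_of_isNilpotent _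
  have hsnT : (A.subgroupOf T).IsSubnormal := by
    have : Group.IsNilpotent T := hTp.isNilpotent
    exact Cfsg.Agent.Lib.Helper52.isSubnormal_of_isNilpotent _
  obtain ⟨-, -, hsub, -⟩ := trans_superset hG hTH hrA (pi_of_pgroups hAp hA1 hPp) hAP hsnP htr
  have hRA := hsub hR
  have hPR : P ≤ normalizer (R : Set G) := (mem_invSubgroups_top_iff.mp hR.1).2
  have hRT : R ∈ Cfsg.maxInvSubgroups ⊤ T {r} := maxInv_of_le hAT hRA (hTP.trans hPR)
  obtain ⟨-, -, -, hd⟩ := trans_superset hG hTH hrA (pi_of_pgroups hAp hA1 hTp) hAT hsnT htr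
  have hNT := (hd R hRT).2
  set KT := Cfsg.piCoreOf (Cfsg.primesNotDvd (Nat.card A)) (centralizer (T : Set G)) with hKT
  have hNKT : normalizer (T : Set G) ≤ normalizer (KT : Set G) :=
    (Cfsg.Agent.Lib.Helper30.normalizer_le_normalizer_centralizer T).trans
      (normalizer_le_normalizer_piCoreOf _ _)
  have hKTH : KT ≤ H := ((piCoreOf_le _ _).trans (Subgroup.centralizer_le hAT)).trans hCA
  have hAH : A ≤ H := hAP.trans hP.le
  have hKTX : KT ≤ opPrimeIn p H := by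
    have h1 : KT ≤ Cfsg.piCoreOf (Cfsg.primesNotDvd (Nat.card A)) H :=
      le_core_of_inv hTH hH.1 hAH hKTH (piCoreOf_isPi _ _) ((hAT.trans le_normalizer).trans hNKT)
    refine h1.trans (le_opPrimeIn (piCoreOf_le _ _) (le_normalizer_piCoreOf _ _) ?_)
    have h2 := coprime_of_piNat_primesNotDvd (piCoreOf_isPi (Cfsg.primesNotDvd (Nat.card A)) H)
    exact (Nat.Coprime.coprime_dvd_left (dvd_card_of_isPGroup_ne_bot hAp hA1) h2).symm
  have hfac' : ∀ h ∈ H, ∃ k ∈ opPrimeIn p H, ∃ n ∈ H ⊓ normalizer (R : Set G), h = k * n := by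
    intro h hh
    obtain ⟨x, hx, n, hn, rfl⟩ := hfac h hh
    have hn2 : n ∈ KT ⊔ (normalizer (T : Set G) ⊓ normalizer (R : Set G)) := hNT ▸ hn.2
    rw [mem_sup_of_le_normalizer (inf_le_left.trans hNKT)] at hn2
    obtain ⟨k, hk, m, hm, rfl⟩ := hn2
    refine ⟨x * k, mul_mem hx (hKTX hk), m, mem_inf.mpr ⟨?_, hm.2⟩, by group⟩
    have h3 : m = k⁻¹ * (k * m) := by group
    rw [h3]
    exact mul_mem (inv_mem (hKTH hk)) hn.1
  exact inf_commutator_le_of_factorization (opPrimeIn_le p H) (le_normalizer_opPrimeIn p H)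
    (opPrimeIn_coprime p H) inf_le_left hfac' (le_inf hP.le hPR) hPp

/-- B-G Theorem 9.6, conditional on the `p`-group rung `R2a`. -/
theorem bg96 (hG : Cfsg.IsMinSimpleOddOrder G) (hR : R2a G) (p : ℕ) [hp : Fact p.Prime]
    (P : Sylow p G) (A : Subgroup G) (hA : Cfsg.IsSCN (P : Subgroup G) A)
    (hA3 : ¬ Cfsg.PRankLE p 2 ↥A) : Cfsg.InUniqueMaximal A := by
  by_contra hAU
  obtain ⟨hAP, hPA, hCPA⟩ := id hA
  have hp1 := hp.out.one_lt
  have hAp : IsPGroup p A := P.2.to_le hAP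
  have hAc : A ≤ centralizer (A : Set G) := by
    intro a ha
    have h1 : a ∈ (P : Subgroup G) ⊓ centralizer (A : Set G) := hCPA.symm ▸ ha
    exact h1.2
  have hAcomm : IsMulCommutative A :=
    ⟨⟨fun a b => Subtype.ext ((mem_centralizer_iff.mp (hAc b.2) a a.2))⟩⟩
  obtain ⟨E0, hE0A, hE0, hE0c⟩ := exists_elementary_of_not_pRankLE hA3
  have hE0c' := Cfsg.Agent.Lib.Helper58.BG9.pow_succ_le_card_of_lt (ea_isPGroup hE0) hE0c
  obtain ⟨E, hEE0, hE3⟩ := Cfsg.Agent.Lib.Helper58.BG9.exists_le_card_eq (k := 3) (ea_isPGroup hE0) hE0c'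
  have hE := ea_of_le hE0 hEE0
  have hEA : E ≤ A := hEE0.trans hE0A
  have hE3' : p ^ 2 < Nat.card E := by
    rw [hE3]; exact Nat.pow_lt_pow_right hp1 (by norm_num)
  have hE3'' : p ^ 1 < Nat.card E := by
    rw [hE3]; exact Nat.pow_lt_pow_right hp1 (by norm_num)
  have hA1 : A ≠ ⊥ := by
    rintro rfl
    have h1 : E = ⊥ := le_bot_iff.mp hEA
    rw [h1, card_bot] at hE3
    have h2 : 1 < p ^ 3 := Nat.one_lt_pow (by norm_num) hp1
    omega
  have hAtop := Cfsg.Agent.Lib.Helper58.BG9.ne_top_of_isPGroup hG hAp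
  have hpG : p ∣ Nat.card G :=
    (dvd_card_of_isPGroup_ne_bot hAp hA1).trans (Subgroup.card_subgroup_dvd_card A)
  have hTH : Cfsg.TransitivityHypothesis A :=
    Cfsg.Agent.S1396.result hG p hpG A hAp hAcomm
      (Or.inr ⟨P, hA, not_pRankLE_of_elementary hEA hE hE3''⟩)
  have hNC : NC p A := by
    intro B hBA hB hBc L₀ hL₀ hBL₀
    have h1 := Cfsg.Agent.Lib.Helper58.BG9.bg93 hG hL₀ hBL₀
      (Cfsg.Agent.Lib.Helper58.BG9.not_rankLE_one_of_elementary le_rfl hB hBc)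
    exact hAU (uniq_mono h1 hBA hAtop)
  have hN : ∀ M : Subgroup G, IsCoatom M → Cfsg.PRankLE p 2 (Cfsg.fittingOf M) := by
    intro M hM
    by_contra hF
    exact hAU (Cfsg.Agent.Lib.Helper58.BG9.bg95 hG hM hF hAp hAcomm hA3)
  have hP1 : (P : Subgroup G) ≠ ⊥ := by
    intro h
    exact hA1 (le_bot_iff.mp (h ▸ hAP))
  have hJ1 : zL (P : Subgroup G) ≠ ⊥ := zL_ne_bot P.2 hP1
  have hJtop : zL (P : Subgroup G) ≠ ⊤ :=
    Cfsg.Agent.Lib.Helper58.BG9.ne_top_of_isPGroup hG (P.2.to_le (zL_le _))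
  obtain ⟨H, hH, hNJH⟩ := exists_coatom_ge (normalizer_ne_top hG hJ1 hJtop)
  have hPH' : (P : Subgroup G) ≤ ⁅H, H⁆ :=
    (sylow_le_commutator_normalizer_zL hG P).trans (commutator_mono hNJH hNJH)
  have hPH : (P : Subgroup G) ≤ H := hPH'.trans (commutator_le_of_le_normalizer le_normalizer)
  have hAH : A ≤ H := hAP.trans hPH
  obtain ⟨s, V, hs, hsp, hPack⟩ := exists_pack hG hR hN hNC hEA hE hE3 hH ((hEA.trans hAP).trans hPH')
  have : Fact s.Prime := ⟨hs⟩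
  have hCAH : centralizer (A : Set G) ≤ H := hPack.centralizer_A_le hG hsp hNC hEA hE hE3 hAH
  have hZ : ¬ Cfsg.RankLE 2 ↥(A ⊓ centralizer (A : Set G)) :=
    not_rankLE_of_elementary hp.out (le_inf hEA (hEA.trans hAc)) hE hE3'
  have hPsyl : IsSylowIn p (P : Subgroup G) H :=
    ⟨hPH, P.2, fun hd => P.not_dvd_index (hd.trans (relIndex_dvd_index_of_le hPH))⟩
  have key : ∀ (r : ℕ) [Fact r.Prime], r ≠ p → ∀ R ∈ Cfsg.maxInvSubgroups ⊤ (P : Subgroup G) {r},
      R ≤ H := by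
    intro r hr hrp R hRm
    by_cases hR1 : R = ⊥
    · rw [hR1]; exact bot_le
    obtain ⟨hRr, hPR⟩ := mem_invSubgroups_top_iff.mp hRm.1
    have hRtop := Cfsg.Agent.Lib.Helper58.BG9.ne_top_of_isPGroup hG hRr
    obtain ⟨L, hL, hNRL⟩ := exists_coatom_ge (normalizer_ne_top hG hR1 hRtop)
    have h1 := inf_commutator_le_of_maxInv hG hrp hTH hAcomm hZ hPsyl hAP hPA hH hCAH hRm
    have hPL' : (P : Subgroup G) ≤ ⁅L, L⁆ :=
      ((le_inf le_rfl hPH').trans h1).trans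
        (commutator_mono (inf_le_right.trans hNRL) (inf_le_right.trans hNRL))
    obtain ⟨t, V', ht, htp, hPack'⟩ :=
      exists_pack hG hR hN hNC hEA hE hE3 hL ((hEA.trans hAP).trans hPL')
    have : Fact t.Prime := ⟨ht⟩
    have hHL : H = L := pack_unique hG hTH hAp hAc hEA hE hE3 hNC hsp htp hAH
      (hAP.trans (hPR.trans hNRL)) hPack hPack'
    rw [hHL]
    exact le_normalizer.trans hNRL
  apply hAU
  refine Cfsg.Agent.Lib.Helper58.BG9.bg91b hG hH hAH hAp hA1 ?_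
  intro Y hY hAY
  have hcop : (Nat.card A).Coprime (Nat.card Y) := by
    obtain ⟨n, hn⟩ := IsPGroup.iff_card.mp hAp
    rw [hn]
    exact Nat.Coprime.pow_left n hY.symm
  have hAsol : Group.IsSolvable A := by
    have : Group.IsNilpotent A := hAp.isNilpotent
    infer_instance
  have htop : H.subgroupOf Y = ⊤ := by
    apply Cfsg.Agent.Lib.Helper1.eq_top_of_forall_sylow_le
    intro r hr
    obtain ⟨Yr, hYr, hAYr⟩ := exists_invariant_isSylowIn hAY hcop (Or.inl hAsol) r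
    have hYrH : Yr ≤ H := by
      by_cases hrp : r = p
      · subst hrp
        have h1 : Yr = ⊥ := eq_bot_of_isPGroup_of_coprime hYr.isPGroup
          (Nat.Coprime.coprime_dvd_left (card_dvd_of_le hYr.le) hY)
        rw [h1]; exact bot_le
      · have hrA : ¬ r ∣ Nat.card A := not_dvd_card_pgroup hrp hAp
        obtain ⟨Q, hQ, hYrQ⟩ := exists_maxInv_ge hYr.isPGroup hAYr
        obtain ⟨R0, hR0, -⟩ := exists_maxInv_ge (A := (P : Subgroup G)) (S := ⊥) (q := r)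
          IsPGroup.of_bot (by intro x _; rw [mem_normalizer_iff]; intro h; simp [mem_bot])
        have htr : ∀ Q₁ ∈ Cfsg.maxInvSubgroups ⊤ A {r}, ∀ Q₂ ∈ Cfsg.maxInvSubgroups ⊤ A {r},
            ∃ k ∈ transK A, Q₂ = cj k Q₁ :=
          fun Q₁ h₁ Q₂ h₂ => kconj_of_rank_three hG hTH hZ hrA h₁ h₂
        have hsnP : (A.subgroupOf (P : Subgroup G)).IsSubnormal := by
          have : Group.IsNilpotent (P : Subgroup G) := P.2.isNilpotent
          exact Cfsg.Agent.Lib.Helper52.isSubnormal_of_isNilpotent _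
        obtain ⟨-, -, hsub, -⟩ :=
          trans_superset hG hTH hrA (pi_of_pgroups hAp hA1 P.2) hAP hsnP htr
        obtain ⟨k, hk, hkQ⟩ := htr R0 (hsub hR0) Q hQ
        have hkH : k ∈ H := hCAH (transK_le_centralizer A hk)
        have h2 : cj k R0 ≤ H := by
          have := cj_mono k (key r hrp R0 hR0)
          rwa [cj_eq_of_mem hkH] at this
        exact hYrQ.trans (hkQ ▸ h2)
    obtain ⟨S', hS'⟩ := hYr.exists_sylow
    refine ⟨S', fun x hx => ?_⟩
    rw [mem_subgroupOf]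
    apply hYrH
    rw [← hS']
    exact ⟨x, hx, rfl⟩
  exact subgroupOf_eq_top.mp htop

end Cfsg.Agent.Lib.Helper2.BG96
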