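import Cfsg.Agent.Lib.Helper2.BG139R4z
import Cfsg.Agent.Lib.Helper29.BG139R11z
import Cfsg.Agent.Lib.Helper98.BG139R12b

/-!
Ladder BG139: assembly of B-G 13.9 (the `σ`-partition), from the texts `Texts0 G`, the text of S1427 and
`Core1428 G`.
-/

set_option autoImplicit false
set_option linter.unusedSectionVars false

namespace Cfsg.Agent.Lib.Helper2.BG139

open Subgroup Cfsg.Agent.Lib.Helper30 Cfsg.Agent.Lib.Helper2 Cfsg.Agent.Lib.Helper2.BG12
  Cfsg.Agent.Lib.Helper68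

universe u

variable {G : Type u} [Group G]

theorem exists_cfg0 [Finite G] {M N : Subgroup G} (hM : IsCoatom M) (hN : IsCoatom N)
    (hnc : ∀ g : G, N ≠ cj g M) {q : ℕ} (hqM : q ∈ Cfsg.sigma M) (hqN : q ∈ Cfsg.sigma N) :
    ∃ N' S : Subgroup G, Cfg q M N' S := by
  have : Fact q.Prime := ⟨hqM.1⟩
  obtain ⟨S1, hS1⟩ := exists_isSylowIn q M
  obtain ⟨S2, hS2⟩ := exists_isSylowIn q N
  have hS1t := sylow_top_of_mem_sigma hqM hS1
  have hS2t := sylow_top_of_mem_sigma hqN hS2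
  obtain ⟨g, -, hg⟩ := hS2t.conj hS1t
  have hN1 := normalizer_le_of_mem_sigma hqM hS1
  have hN2 := normalizer_le_of_mem_sigma hqN hS2
  have hN2' : normalizer (S1 : Set G) ≤ cj g N := by
    rw [hg, normalizer_cj]
    exact cj_mono g hN2
  have hS1ne : S1 ≠ ⊥ := by
    intro h
    apply hS1.not_dvd
    rw [h, relIndex_bot_left]
    exact hqM.2.1
  refine ⟨cj g N, S1, hM, Cfsg.Agent.Lib.Helper58.BG9.isCoatom_cj hN g, ?_, hqM, ?_, hS1t, hN1, hN2'⟩
  · intro k hk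
    apply hnc (g⁻¹ * k)
    rw [cj_mul, ← hk, cj_inv_cj]
  · exact mem_sigma_of_normalizer_le (isSylowIn_of_top hS1t (le_normalizer.trans hN2')) hS1ne hN2'

/-- **B-G 13.9**, conditionally. -/
theorem sigma_partition [Finite G] (T : Texts0 G) (t27 : T1427 G) (core : Core1428 G)
    {M N : Subgroup G} (hM : IsCoatom M) (hN : IsCoatom N) {q : ℕ} (hqM : q ∈ Cfsg.sigma M)
    (hqN : q ∈ Cfsg.sigma N) : ∃ g : G, N = cj g M := by
  by_contra hcon
  push Not at hcon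
  obtain ⟨N', S, h⟩ := exists_cfg0 hM hN hcon hqM hqN
  obtain ⟨p, P, h2⟩ := h.exists_cfg2 T t27 core (Z4.r4 T)
  rcases Cfsg.Agent.Lib.Helper29.BG139.Cfg2.exists_cross0 T h2 with ⟨y, hy, hs⟩ | ⟨y, hy, hs⟩
  · exact Cfsg.Agent.Lib.Helper98.BG139.Cfg2.no_cross0' T h2 hy hs
  · exact Cfsg.Agent.Lib.Helper98.BG139.Cfg2.no_cross0' T h2.symm hy hs

/-- first part of S1378 -/
theorem exists_coatom_sigma [Finite G] (hG : Cfsg.IsMinSimpleOddOrder G) {p : ℕ} (hp : p.Prime)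
    (hpG : p ∣ Nat.card G) : ∃ M : Subgroup G, IsCoatom M ∧ p ∈ Cfsg.sigma M := by
  have : Fact p.Prime := ⟨hp⟩
  obtain ⟨P, hP⟩ := exists_isSylowIn p (⊤ : Subgroup G)
  have hP1 : P ≠ ⊥ := by
    intro h
    apply hP.not_dvd
    rw [h, relIndex_bot_left, card_top]
    exact hpG
  have hPtop : P ≠ ⊤ := isPGroup_ne_top hG hP.isPGroup
  obtain ⟨M, hM, hPM⟩ := exists_coatom_ge (normalizer_ne_top hG hP1 hPtop)
  exact ⟨M, hM, mem_sigma_of_normalizer_le (isSylowIn_of_top hP (le_normalizer.trans hPM)) hP1 hPM⟩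

end Cfsg.Agent.Lib.Helper2.BG139
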