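import Cfsg.Agent.Lib.Helper2.BG139B

/-!
Ladder BG139 (B-G 13.9): the hypothesis `Core1428` (a weak form of the text of S1428, which does not need
the `σ`-partition), and the standalone form of step 3.
-/

set_option autoImplicit false
set_option linter.unusedSectionVars false
set_option linter.unusedVariables false

namespace Cfsg.Agent.Lib.Helper2.BG139

open Subgroup Cfsg.Agent.Lib.Helper30 Cfsg.Agent.Lib.Helper2 Cfsg.Agent.Lib.Helper2.BG12
  Cfsg.Agent.Lib.Helper68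

universe u

variable {G : Type u} [Group G]

/-- helper58's CORE1428. -/
def Core1428 (G : Type u) [Group G] : Prop :=
  ∀ (M : Subgroup G), IsCoatom M → ∀ (p r q : ℕ), p ∈ Cfsg.tau1 M → r.Prime → r ≠ p →
    r ∉ Cfsg.sigma M → q ∈ Cfsg.sigma M → ∀ P R Y H : Subgroup G, P ≤ M → Nat.card P = p → R ≤ M →
    R ≤ centralizer (P : Set G) → Nat.card R = r → IsPGroup q Y → Y ≠ ⊥ → Y ≤ M →
    Y ≤ centralizer (P : Set G) → R ≤ normalizer (Y : Set G) → ⁅Y, R⁆ = Y → IsCoatom H →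
    normalizer (P : Set G) ≤ H → q ∉ Cfsg.sigma H → False

/-- Step 3 for any maximal subgroup: `q ∈ σ(M) \ β(M)`, `S` a Sylow `q`-subgroup of `M`:
`M = M_β N_G(S)`. -/
theorem factor_of_not_beta [Finite G] (T : Texts0 G) {q : ℕ} {M S : Subgroup G} (hM : IsCoatom M)
    (hqM : q ∈ Cfsg.sigma M) (hqβ : q ∉ Cfsg.beta M) (hS : IsSylowIn q S M) :
    ∀ m ∈ M, ∃ b ∈ Cfsg.piCoreOf (Cfsg.beta M) M, ∃ d ∈ normalizer (S : Set G), m = b * d := by
  have hqp : q.Prime := hqM.1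
  have : Fact q.Prime := ⟨hqp⟩
  obtain ⟨hMb, H, hH, hHnil⟩ := T.t14 M hM
  have hSle : S ≤ Cfsg.sigmaCore M := by
    obtain ⟨hle, hπ, hidx⟩ := T.t50 M hM
    apply le_of_coprime_relIndex hle (le_normalizer_piCoreOf (Cfsg.sigma M) M) hS.le
    obtain ⟨k, hk⟩ := IsPGroup.iff_card.mp hS.isPGroup
    rw [hk]
    apply Nat.Coprime.pow_left
    rw [Nat.Prime.coprime_iff_not_dvd hqp]
    exact hidx q hqp hqM
  have hSs : IsSylowIn q S (Cfsg.sigmaCore M) := by
    refine ⟨hSle, hS.isPGroup, fun hd => hS.not_dvd ?_⟩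
    rw [← relIndex_mul_relIndex S _ M hSle (piCoreOf_le _ _)]
    exact Dvd.dvd.mul_right hd _
  obtain ⟨S1, hS1⟩ := exists_isSylowIn q H
  have hS1s : IsSylowIn q S1 (Cfsg.sigmaCore M) := by
    refine ⟨hS1.le.trans hH.1, hS1.isPGroup, ?_⟩
    rw [← relIndex_mul_relIndex S1 H _ hS1.le hH.1]
    intro hd
    rcases (Nat.Prime.dvd_mul hqp).mp hd with h' | h'
    · exact hS1.not_dvd h'
    · exact hH.2.2 q hqp ⟨hqp, hqβ⟩ h'
  obtain ⟨m0, hm0, hm0S⟩ := hS1s.conj hSs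
  have hH1nil : Group.IsNilpotent ↥(cj m0 H) :=
    (Group.isNilpotent_congr (equivMapOfInjective H _ (MulAut.conj m0).injective)).mp hHnil
  have hS1' : IsSylowIn q S (cj m0 H) := hm0S ▸ hS1.cj m0
  have hH1N : cj m0 H ≤ normalizer (S : Set G) := le_normalizer_of_nilpotent hS1' hH1nil
  have hH1le : cj m0 H ≤ Cfsg.sigmaCore M := by
    have := cj_mono m0 hH.1
    rwa [cj_eq_of_mem hm0] at this
  have hMbs := betaCore_le_sigmaCore T hM
  have hsup : Cfsg.sigmaCore M ≤ Cfsg.piCoreOf (Cfsg.beta M) M ⊔ cj m0 H := by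
    apply le_of_forall_isSylowIn
    intro p _ hp
    by_cases hpβ : p ∈ Cfsg.beta M
    · obtain ⟨R, hR⟩ := exists_isSylowIn p (Cfsg.piCoreOf (Cfsg.beta M) M)
      refine ⟨R, ⟨hR.le.trans hMbs, hR.isPGroup, ?_⟩, hR.le.trans le_sup_left⟩
      intro hd
      have h1 : p ∣ R.relIndex M := by
        rw [← relIndex_mul_relIndex R _ M (hR.le.trans hMbs) (piCoreOf_le _ _)]
        exact Dvd.dvd.mul_right hd _
      rw [← relIndex_mul_relIndex R _ M hR.le hMb.1] at h1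
      rcases (Nat.Prime.dvd_mul Fact.out).mp h1 with h' | h'
      · exact hR.not_dvd h'
      · exact hMb.2.2 p Fact.out hpβ h'
    · obtain ⟨R, hR⟩ := exists_isSylowIn p (cj m0 H)
      refine ⟨R, ⟨hR.le.trans hH1le, hR.isPGroup, ?_⟩, hR.le.trans le_sup_right⟩
      rw [← relIndex_mul_relIndex R _ _ hR.le hH1le]
      intro hd
      rcases (Nat.Prime.dvd_mul Fact.out).mp hd with h' | h'
      · exact hR.not_dvd h'
      · have h2 : (cj m0 H).relIndex (Cfsg.sigmaCore M) = H.relIndex (Cfsg.sigmaCore M) := by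
          conv_lhs => rw [← cj_eq_of_mem hm0]
          exact relIndex_cj _ _ _
        rw [h2] at h'
        exact hH.2.2 p Fact.out ⟨Fact.out, hpβ⟩ h'
  intro m hm
  obtain ⟨k, hk, d, hd, rfl⟩ := frattini_sylow hSs (le_normalizer_piCoreOf (Cfsg.sigma M) M) m hm
  obtain ⟨b, hb, x, hx, rfl⟩ := (mem_sup_of_le_normalizer
    (hH1le.trans ((piCoreOf_le _ _).trans (le_normalizer_piCoreOf (Cfsg.beta M) M)))).mp (hsup hk)
  exact ⟨b, hb, x * d, mul_mem (hH1N hx) hd, by group⟩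

end Cfsg.Agent.Lib.Helper2.BG139
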