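import Cfsg.Agent.Lib.Helper2.BG12F
import Cfsg.Agent.Lib.Helper28.Radical

/-!
Bender-Glauberman 12.18 (statement S1425): every nontrivial `σ(M)`-subgroup of `G` is conjugate to a
subgroup of `M_σ`.  Conditional on the texts of S1403, S1405, S1350, S1417, S1420, S1424.
-/

set_option autoImplicit false
set_option linter.unusedSectionVars false

namespace Cfsg.Agent.Lib.Helper2.BG12

open Subgroup Cfsg.Agent.Lib.Helper30 Cfsg.Agent.Lib.Helper28 Cfsg.Agent.Lib.Helper2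
  Cfsg.Agent.Lib.Helper2.BG96 Cfsg.Agent.Lib.Helper68

universe u

variable {G : Type u} [Group G]

/-- the text of S1424 -/
def T1424 (G : Type u) [Group G] : Prop :=
  ∀ (M : Subgroup G), IsCoatom M → ∀ (q : ℕ) [Fact q.Prime], q ∈ Cfsg.sigma M →
    ∀ X : Subgroup G, IsPGroup q X → X ≠ ⊥ → X ≤ M → ∀ Mstar : Subgroup G, IsCoatom Mstar →
    Mstar ≠ M → Subgroup.normalizer (X : Set G) ≤ Mstar → ∀ (S : Sylow q ↥(M ⊓ Mstar)),
    X ≤ (S : Subgroup ↥(M ⊓ Mstar)).map (M ⊓ Mstar).subtype →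
    (∀ g : G, Mstar ≠ M.map (MulAut.conj g).toMonoidHom) ∧
      Subgroup.normalizer (((S : Subgroup ↥(M ⊓ Mstar)).map (M ⊓ Mstar).subtype : Subgroup G) : Set G) ≤ M ∧
      ¬ q ∣ ((S : Subgroup ↥(M ⊓ Mstar)).map (M ⊓ Mstar).subtype).relIndex Mstar

/-- the parts of the text of S1417 that are used -/
def T1417ac (G : Type u) [Group G] : Prop :=
  ∀ (M : Subgroup G), IsCoatom M → ∀ (p : ℕ) [Fact p.Prime], p ∈ Cfsg.tau2 M → ∀ A : Subgroup G,
    (A ≤ M ∧ Cfsg.IsElementaryAbelian p A ∧ Nat.card A = p ^ 2) →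
    Group.IsNilpotent (Cfsg.sigmaCore M) ∧
      M ≤ Subgroup.normalizer ((Cfsg.sigmaCore M ⊔ A : Subgroup G) : Set G)

theorem sylow_top_of_mem_sigma [Finite G] {M : Subgroup G} {r : ℕ} [Fact r.Prime]
    (hr : r ∈ Cfsg.sigma M) {R : Subgroup G} (hR : IsSylowIn r R M) : IsSylowIn r R ⊤ :=
  isSylowIn_top_of_normalizer_le hR (normalizer_le_of_mem_sigma hr hR)

theorem alpha_sigma_disjoint [Finite G] (hG : Cfsg.IsMinSimpleOddOrder G) (hU : UT G)
    {M L : Subgroup G} (hM : IsCoatom M) (hL : IsCoatom L) (hnc : ∀ g : G, L ≠ cj g M) {r : ℕ}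
    (hrM : r ∈ Cfsg.sigma M) (hrL : r ∈ Cfsg.alpha L) : False := by
  have : Fact r.Prime := ⟨hrL.1⟩
  obtain ⟨R, hR⟩ := exists_isSylowIn r L
  have hRtop := sylow_top_of_mem_sigma (mem_sigma_of_mem_alpha hG hU hL hrL) hR
  obtain ⟨E, hER, hE, hEc⟩ := exists_elementary_of_not_pRankLE
    (fun h => hrL.2 (pRankLE_of_sylow hR h))
  have hEU := uniq_of_ea_cube hU hL (hER.trans hR.le) hE hEc
  obtain ⟨R1, hR1⟩ := exists_isSylowIn r M
  obtain ⟨g, -, hg⟩ := hRtop.conj (sylow_top_of_mem_sigma hrM hR1)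
  have h1 : cj g R ≤ M := hg ▸ hR1.le
  have h2 := uniq_eq hEU hL (hER.trans hR.le) (Cfsg.Agent.Lib.Helper58.BG9.isCoatom_cj hM g⁻¹)
    (hER.trans (cj_le_iff.mp h1))
  exact hnc g⁻¹ h2.symm

theorem sigma_disjoint_of_nilpotent [Finite G] (hG : Cfsg.IsMinSimpleOddOrder G) (h50 : T1350a G)
    {M L : Subgroup G} (hM : IsCoatom M) (hL : IsCoatom L) (hnc : ∀ g : G, L ≠ cj g M)
    (hnil : Group.IsNilpotent (Cfsg.sigmaCore L)) {r : ℕ}
    (hrM : r ∈ Cfsg.sigma M) (hrL : r ∈ Cfsg.sigma L) : False := by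
  have : Fact r.Prime := ⟨hrL.1⟩
  obtain ⟨R'⟩ : Nonempty (Sylow r ↥(Cfsg.sigmaCore L)) := inferInstance
  have hR0 : IsSylowIn r ((R' : Subgroup ↥(Cfsg.sigmaCore L)).map (Cfsg.sigmaCore L).subtype)
      (Cfsg.sigmaCore L) := isSylowIn_of_sylow R'
  obtain ⟨hRL, hRtop⟩ := sylow_sigmaCore h50 hL hrL hR0
  have hn : (R' : Subgroup ↥(Cfsg.sigmaCore L)).Normal := inferInstance
  have hchar := R'.characteristic_of_normal hn
  have hLN : L ≤ normalizer (((R' : Subgroup ↥(Cfsg.sigmaCore L)).map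
      (Cfsg.sigmaCore L).subtype : Subgroup G) : Set G) :=
    le_normalizer_map_subtype_of_characteristic (le_normalizer_piCoreOf (Cfsg.sigma L) L) hchar
  set R := (R' : Subgroup ↥(Cfsg.sigmaCore L)).map (Cfsg.sigmaCore L).subtype with hRdef
  have hR1 : R ≠ ⊥ := by
    intro h
    apply hRL.not_dvd
    rw [h, relIndex_bot_left]
    exact hrL.2.1
  have hN := normalizer_eq_of_coatom hG hL hR1 hRL.le hLN
  obtain ⟨R1, hR1M⟩ := exists_isSylowIn r M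
  obtain ⟨g, -, hg⟩ := hRtop.conj (sylow_top_of_mem_sigma hrM hR1M)
  have h1 : normalizer (R1 : Set G) ≤ M := normalizer_le_of_mem_sigma hrM hR1M
  rw [hg, normalizer_cj, hN] at h1
  have h2 := eq_of_coatom_le (Cfsg.Agent.Lib.Helper58.BG9.isCoatom_cj hL g) hM h1
  apply hnc g⁻¹
  rw [h2, cj_inv_cj]

theorem coprime_of_hall {π : Set ℕ} {N M : Subgroup G} (h : Cfsg.IsPiHallOf π N M) :
    (Nat.card N).Coprime (N.relIndex M) := by
  apply Nat.coprime_of_dvd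
  intro k hk h1 h2
  exact h.2.2 k hk (h.2.1 k hk h1) h2

theorem core_12_18 [Finite G] (hG : Cfsg.IsMinSimpleOddOrder G) (hU : UT G) (h5 : T1405 G)
    (h5n : T1405n G) (h50 : T1350a G) (h17 : T1417ac G) (h20c : T1420c G) (h24 : T1424 G)
    {M : Subgroup G} (hM : IsCoatom M) {q : ℕ} [hqp : Fact q.Prime] (hq : q ∈ Cfsg.sigma M)
    {X Y : Subgroup G} (hXea : Cfsg.IsElementaryAbelian q X) (hX1 : X ≠ ⊥) (hXM : X ≤ M)
    (hYX : Y ≤ normalizer (X : Set G))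
    (hY : ∀ p : ℕ, p.Prime → p ∣ Nat.card Y → p ∈ Cfsg.sigma M) :
    ∃ g : G, cj g Y ≤ Cfsg.sigmaCore M := by
  have hfinish : ∀ g : G, cj g Y ≤ M → cj g Y ≤ Cfsg.sigmaCore M := by
    intro g hg
    apply le_of_coprime_relIndex (h50 M hM).1 (le_normalizer_piCoreOf (Cfsg.sigma M) M) hg
    rw [card_cj]
    apply Nat.coprime_of_dvd
    intro k hk h1 h2
    exact (h50 M hM).2.2 k hk (hY k hk h1) h2
  have hXq := ea_isPGroup hXea
  have hXtop := Cfsg.Agent.Lib.Helper58.BG9.ne_top_of_isPGroup hG hXq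
  by_cases hcyc : q ^ 2 ≤ Nat.card X
  · refine ⟨1, hfinish 1 ?_⟩
    rw [cj_one]
    exact hYX.trans (h20c M hM q X hq hXq hXM (not_isCyclic_of_ea hXea hcyc))
  have hXc : Nat.card X = q := card_eq_prime_of_lt_sq hXq hX1 (not_le.mp hcyc)
  obtain ⟨L, hL, hNX⟩ := exists_coatom_ge (normalizer_ne_top hG hX1 hXtop)
  by_cases hLM : L = M
  · refine ⟨1, hfinish 1 ?_⟩
    rw [cj_one]
    exact hYX.trans (hLM ▸ hNX)
  have hXL : X ≤ L := le_normalizer.trans hNX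
  obtain ⟨S0, hS0, hXS0⟩ := exists_isSylowIn_ge (le_inf hXM hXL) hXq
  obtain ⟨S', hS'⟩ := hS0.exists_sylow
  obtain ⟨hnc, hNS, hSidx⟩ := h24 M hM q hq X hXq hX1 hXM L hL hLM hNX S' (by rw [hS']; exact hXS0)
  rw [hS'] at hNS hSidx
  have hSL : IsSylowIn q S0 L := ⟨hS0.le.trans inf_le_right, hS0.isPGroup, hSidx⟩
  have hLsol := solvable_of_ne_top hG hL.1
  have hYL : Y ≤ L := hYX.trans hNX
  have hclaim : ∃ h ∈ L, cj h Y ≤ M ⊓ L := by
    by_cases hqL : q ∈ Cfsg.sigma L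
    · apply exists_cj_le hLsol (piCoreOf_le (Cfsg.alpha L) L : Cfsg.alphaCore L ≤ L)
        (le_normalizer_piCoreOf (Cfsg.alpha L) L) (coprime_of_hall (h5 L hL)) inf_le_right ?_ hYL ?_
      · intro l hl
        obtain ⟨a, ha, n, hn, rfl⟩ := frattini_alpha hG hU h5n hL hqL hSL l hl
        exact ⟨a, ha, n, mem_inf.mpr ⟨hNS hn.2, hn.1⟩, rfl⟩
      · apply Nat.coprime_of_dvd
        intro k hk h1 h2
        exact alpha_sigma_disjoint hG hU hM hL hnc (hY k hk h1) ((h5 L hL).2.1 k hk h2)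
    · obtain ⟨hr2, hr1⟩ := (Cfsg.Agent.Lib.Helper40.BG10.S1409_of hG hU L hL q hqL X hXc hNX).1
      have hτ : q ∈ Cfsg.tau2 L := ⟨hqp.out, hqL, hr2, hr1⟩
      obtain ⟨A0, hA0L, hA0, hA0c⟩ := exists_elementary_of_not_pRankLE hr1
      obtain ⟨S1, hS1, hA0S1⟩ := exists_isSylowIn_ge hA0L (ea_isPGroup hA0)
      obtain ⟨k, -, hk⟩ := hS1.conj hSL
      have hA1 := ea_cj hA0 k
      have hA1c : q ^ 1 < Nat.card (cj k A0) := by rw [card_cj]; exact hA0c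
      obtain ⟨A, hAA1, hAc⟩ := Cfsg.Agent.Lib.Helper58.BG9.exists_le_card_eq (k := 2)
        (ea_isPGroup hA1) (Cfsg.Agent.Lib.Helper58.BG9.pow_succ_le_card_of_lt (ea_isPGroup hA1) hA1c)
      have hA := ea_of_le hA1 hAA1
      have hAS0 : A ≤ S0 := hAA1.trans (hk ▸ cj_mono k hA0S1)
      have hAM : A ≤ M := (hAS0.trans hS0.le).trans inf_le_left
      have hAL : A ≤ L := (hAS0.trans hS0.le).trans inf_le_right
      obtain ⟨hnil, hnorm⟩ := h17 L hL q hτ A ⟨hAL, hA, hAc⟩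
      have hNA : normalizer (A : Set G) ≤ M :=
        h20c M hM q A hq (ea_isPGroup hA) hAM (not_isCyclic_of_ea hA hAc.ge)
      have hLσ : Cfsg.sigmaCore L ≤ L := (h50 L hL).1
      have hLn : L ≤ normalizer (Cfsg.sigmaCore L : Set G) := le_normalizer_piCoreOf (Cfsg.sigma L) L
      have hcq : (Nat.card (Cfsg.sigmaCore L)).Coprime q :=
        ((Nat.Prime.coprime_iff_not_dvd hqp.out).mpr
          (fun hd => hqL ((h50 L hL).2.1 q hqp.out hd))).symm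
      apply exists_cj_le hLsol hLσ hLn (coprime_of_hall (h50 L hL)) inf_le_right ?_ hYL ?_
      · intro l hl
        obtain ⟨a, ha, d, hd, rfl⟩ := frattini_rel (hAL.trans hLn) hnorm (ea_isPGroup hA) hcq l hl
        refine ⟨a, ha, d, mem_inf.mpr ⟨hNA hd, ?_⟩, rfl⟩
        have : d = a⁻¹ * (a * d) := by group
        rw [this]
        exact mul_mem (inv_mem (hLσ ha)) hl
      · apply Nat.coprime_of_dvd
        intro k hk h1 h2
        exact sigma_disjoint_of_nilpotent hG h50 hM hL hnc hnil (hY k hk h1)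
          ((h50 L hL).2.1 k hk h2)
  obtain ⟨h, -, hle⟩ := hclaim
  exact ⟨h, hfinish h (hle.trans inf_le_left)⟩

/-- B-G 12.18, conditionally. -/
theorem S1425_of [Finite G] (hG : Cfsg.IsMinSimpleOddOrder G) (hU : UT G) (h5 : T1405 G)
    (h5n : T1405n G) (h50 : T1350a G) (h17 : T1417ac G) (h20c : T1420c G) (h24 : T1424 G)
    (M : Subgroup G) (hM : IsCoatom M) (Y : Subgroup G) (hY1 : Y ≠ ⊥)
    (hY : ∀ p : ℕ, p.Prime → p ∣ Nat.card Y → p ∈ Cfsg.sigma M) :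
    ∃ g : G, Y.map (MulAut.conj g).toMonoidHom ≤ Cfsg.sigmaCore M := by
  obtain ⟨q0, hq0, hq0d⟩ := Nat.exists_prime_and_dvd
    (fun h => hY1 ((Subgroup.card_eq_one).mp h) : Nat.card Y ≠ 1)
  have hM1 : M ≠ ⊥ := by
    rintro rfl
    have := (hY q0 hq0 hq0d).2.1
    rw [card_bot] at this
    exact hq0.one_lt.ne' (Nat.dvd_one.mp this)
  have hYtop : Y ≠ ⊤ := by
    rintro rfl
    obtain ⟨r, hr, hrM, hrσ⟩ := exists_prime_not_mem_sigma hG hU hM hM1
    exact hrσ (hY r hr (hrM.trans (card_dvd_of_le le_top)))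
  have hYsol := solvable_of_ne_top hG hYtop
  have hF1 : fitIn Y ≠ ⊥ := by
    intro h
    apply hY1
    rw [eq_bot_iff, ← h]
    refine le_trans ?_ (inf_centralizer_fitIn_le hYsol)
    refine le_inf le_rfl ?_
    rw [h]
    intro y _
    rw [mem_centralizer_iff]
    intro z hz
    rw [SetLike.mem_coe, mem_bot] at hz
    rw [hz]; simp
  obtain ⟨q, hq, hqd⟩ := Nat.exists_prime_and_dvd
    (fun h => hF1 ((Subgroup.card_eq_one).mp h) : Nat.card (fitIn Y) ≠ 1)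
  have : Fact q.Prime := ⟨hq⟩
  have hX01 : opIn q Y ≠ ⊥ := opIn_ne_bot_of_dvd hqd
  have hX0q := opIn_isPGroup q Y
  have hX1 : omZ q (opIn q Y) ≠ ⊥ := omZ_ne_bot hX0q hX01
  have hYX : Y ≤ normalizer (omZ q (opIn q Y) : Set G) :=
    (le_normalizer_opIn q Y).trans (normalizer_le_normalizer_omZ q _)
  have hqσ : q ∈ Cfsg.sigma M := hY q hq (hqd.trans (card_dvd_of_le (fitIn_le Y)))
  obtain ⟨Q, hQ⟩ := exists_isSylowIn q M
  obtain ⟨g, hg⟩ := exists_le_cj_of_isPGroup (sylow_top_of_mem_sigma hqσ hQ)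
    (ea_isPGroup (omZ_ea q (opIn q Y)))
  obtain ⟨g', hg'⟩ := core_12_18 hG hU h5 h5n h50 h17 h20c h24 hM hqσ
    (X := cj g⁻¹ (omZ q (opIn q Y))) (Y := cj g⁻¹ Y) (ea_cj (omZ_ea q _) g⁻¹)
    (by
      intro h
      apply hX1
      have := congrArg (cj g) h
      rw [cj_cj_inv] at this
      rw [this, eq_bot_iff]
      rintro _ ⟨y, hy, rfl⟩
      rw [SetLike.mem_coe, mem_bot] at hy
      rw [hy]; simp)
    ((cj_le_iff.mpr (by rw [inv_inv]; exact hg)).trans hQ.le)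
    (by rw [normalizer_cj]; exact cj_mono g⁻¹ hYX)
    (by rw [card_cj]; exact hY)
  refine ⟨g' * g⁻¹, ?_⟩
  change cj (g' * g⁻¹) Y ≤ _
  rw [cj_mul]
  exact hg'

end Cfsg.Agent.Lib.Helper2.BG12
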