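import Cfsg.Agent.Lib.Helper2.BG16A

/-!
Bender-Glauberman section 16: `M` is of Type II iff `K ≠ 1` and `U ≠ 1` (statement S1381), from the texts of
lower statements.
-/

set_option autoImplicit false
set_option linter.unusedSectionVars false
set_option linter.unusedVariables false

namespace Cfsg.Agent.Lib.Helper2.BG16

open Subgroup Cfsg.Agent.Lib.Helper30 Cfsg.Agent.Lib.Helper2 Cfsg.Agent.Lib.Helper2.BG12
  Cfsg.Agent.Lib.Helper68 Cfsg.Agent.Lib.Helper2.BG139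

universe u

variable {G : Type u} [Group G] [Finite G] {M K U : Subgroup G}

/-- `M' ∩ K = 1` and `M = M' K` when `M' = U M_σ`. -/
theorem isComplIn_commutator (h : Cfsg.IsSigmaDecomposition M K U)
    (hD : ⁅M, M⁆ = U ⊔ Cfsg.sigmaCore M) : Cfsg.IsComplIn ⁅M, M⁆ K M := by
  have hUn : U ≤ normalizer ((Cfsg.sigmaCore M : Subgroup G) : Set G) :=
    h.compl.1.trans (le_normalizer_sigmaCore M)
  refine ⟨commutator_le_self M, h.hall.1, ?_, ?_⟩
  · rw [eq_bot_iff, hD, sup_comm]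
    rintro k ⟨hk1, hk2⟩
    obtain ⟨s, hs, u, hu, rfl⟩ := (mem_sup_of_le_normalizer hUn).mp hk1
    have hu1 : u ∈ U ⊓ (K ⊔ Cfsg.sigmaCore M) := by
      refine mem_inf.mpr ⟨hu, ?_⟩
      have : u = s⁻¹ * (s * u) := by group
      rw [this]
      exact mul_mem (le_sup_right (a := K) (inv_mem hs)) (le_sup_left (b := Cfsg.sigmaCore M) hk2)
    rw [h.compl.2.2.1, mem_bot] at hu1
    subst hu1
    rw [mul_one] at hk2 ⊢
    have : s ∈ K ⊓ Cfsg.sigmaCore M := mem_inf.mpr ⟨hk2, hs⟩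
    rwa [dec_K_inf h] at this
  · intro m hm
    obtain ⟨u, hu, s, hs, k, hk, rfl⟩ := dec_factor h m hm
    refine ⟨u * s, ?_, k, hk, rfl⟩
    rw [hD]
    exact mul_mem (le_sup_left (b := Cfsg.sigmaCore M) hu) (le_sup_right (a := U) hs)

theorem isComplIn_sigmaCore_U (h : Cfsg.IsSigmaDecomposition M K U) :
    Cfsg.IsComplIn (Cfsg.sigmaCore M) U (U ⊔ Cfsg.sigmaCore M) := by
  have hUn : U ≤ normalizer ((Cfsg.sigmaCore M : Subgroup G) : Set G) :=
    h.compl.1.trans (le_normalizer_sigmaCore M)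
  refine ⟨le_sup_right, le_sup_left, by rw [inf_comm]; exact dec_U_inf h, ?_⟩
  intro m hm
  rw [sup_comm] at hm
  exact (mem_sup_of_le_normalizer hUn).mp hm

/-- the self-normalizing cyclic pair -/
theorem selfNormalizing_of {K Ks : Subgroup G} (hK : K ≠ ⊥) (hKs : Ks ≠ ⊥) (hinf : K ⊓ Ks = ⊥)
    (hcomm : ∀ a ∈ K, ∀ b ∈ Ks, a * b = b * a) (hcyc : IsCyclic ↥(K ⊔ Ks))
    (hTI : Cfsg.IsTISubset ((↑(K ⊔ Ks) : Set G) \ ((K : Set G) ∪ ↑Ks)))
    (hN : Subgroup.normalizer ((↑(K ⊔ Ks) : Set G) \ ((K : Set G) ∪ ↑Ks)) = K ⊔ Ks) :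
    Cfsg.IsSelfNormalizingCyclic K Ks := by
  refine ⟨hK, hKs, hinf, hcomm, hcyc, ?_⟩
  intro X hX hXne
  apply le_antisymm
  · intro g hg
    by_contra hgZ
    rw [← hN] at hgZ
    obtain ⟨x, hx⟩ := hXne
    have hgx : g * x * g⁻¹ ∈ X := (mem_set_normalizer_iff.mp hg x).mp hx
    have h1 := hTI g hgZ x (hX hx) (hX hgx)
    apply (hX hx).2
    left
    rw [h1]
    exact K.one_mem
  · intro z hz
    rw [mem_set_normalizer_iff]
    intro x
    have key : ∀ y ∈ X, ∀ w ∈ K ⊔ Ks, w * y * w⁻¹ = y := by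
      intro y hy w hw
      have := hcyc.isMulCommutative.is_comm.comm (⟨w, hw⟩ : ↥(K ⊔ Ks)) ⟨y, (hX hy).1⟩
      have h2 : w * y = y * w := congrArg Subtype.val this
      rw [h2]; group
    constructor
    · intro hx
      rw [key x hx z hz]; exact hx
    · intro hx
      have := key _ hx z⁻¹ (inv_mem hz)
      have e : z⁻¹ * (z * x * z⁻¹) * z⁻¹⁻¹ = x := by group
      rw [e] at this
      rw [this]; exact hx


theorem fittingHall_eq_subgroupOf {D H : Subgroup G} (hF : Cfsg.fittingHallOf D = H) :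
    Cfsg.fittingHall D = H.subgroupOf D := by
  rw [← hF, Cfsg.fittingHallOf, subgroupOf, comap_map_eq_self_of_injective D.subtype_injective]

/-- Frobenius type from data given by subgroups of `G`. -/
theorem isOfTypeF_of {D H U U₁ U₀ : Subgroup G} (hsol : Group.IsSolvable D)
    (hodd : Odd (Nat.card D)) (hF : Cfsg.fittingHallOf D = H) (hH1 : H ≠ ⊥) (hU1 : U ≠ ⊥)
    (hc : Cfsg.IsComplIn H U D) (hU₁ : U₁ ≤ U) (hn : U ≤ normalizer (U₁ : Set G))
    (hcomm : IsMulCommutative U₁)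
    (hcent : ∀ x ∈ H, x ≠ 1 → U ⊓ centralizer ({x} : Set G) ≤ U₁) (hU₀ : U₀ ≤ U)
    (hexp : Monoid.exponent U₀ = Monoid.exponent U)
    (hfree : ∀ u ∈ U₀, u ≠ 1 → ∀ x ∈ H, u * x = x * u → x = 1) : Cfsg.IsOfTypeF D := by
  have hFD := fittingHall_eq_subgroupOf hF
  have hUD : U ≤ D := hc.2.1
  have hHD : H ≤ D := hc.1
  refine ⟨hsol, hodd, ?_, ?_, U.subgroupOf D, ?_, ?_, ?_, ?_⟩
  · rw [hFD]
    intro hb
    apply hH1
    rw [← map_subgroupOf_eq_of_le hHD, hb, Subgroup.map_bot]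
  · rw [hFD]
    intro ht
    apply hU1
    have h1 : H = D := by
      rw [← map_subgroupOf_eq_of_le hHD, ht, ← MonoidHom.range_eq_map, D.range_subtype]
    rw [eq_bot_iff, ← hc.2.2.1, h1]
    exact le_inf hUD le_rfl
  · intro hb
    apply hU1
    rw [← map_subgroupOf_eq_of_le hUD, hb, Subgroup.map_bot]
  · rw [hFD]
    exact isComplement'_of_isComplIn hc
  · refine ⟨U₁.subgroupOf D, ?_, ?_, ?_, ?_⟩
    · exact Subgroup.comap_mono hU₁
    · intro u hu
      rw [mem_normalizer_iff]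
      intro y
      exact mem_normalizer_iff.mp (hn (mem_subgroupOf.mp hu)) (y : G)
    · refine ⟨⟨?_⟩⟩
      rintro ⟨a, ha⟩ ⟨b, hb⟩
      have := hcomm.is_comm.comm (⟨a, mem_subgroupOf.mp ha⟩ : U₁) ⟨b, mem_subgroupOf.mp hb⟩
      have h2 : (a : G) * (b : G) = (b : G) * (a : G) := congrArg Subtype.val this
      exact Subtype.ext (Subtype.ext h2)
    · intro x hx hx1 u hu
      rw [hFD] at hx
      obtain ⟨hu1, hu2⟩ := mem_inf.mp hu
      apply mem_subgroupOf.mpr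
      apply hcent (x : G) (mem_subgroupOf.mp hx) (fun h => hx1 (Subtype.ext h))
      refine mem_inf.mpr ⟨mem_subgroupOf.mp hu1, ?_⟩
      rw [mem_centralizer_singleton_iff] at hu2 ⊢
      exact congrArg Subtype.val hu2
  · refine ⟨U₀.subgroupOf D, Subgroup.comap_mono hU₀, ?_, ?_⟩
    · rw [Monoid.exponent_eq_of_mulEquiv (subgroupOfEquivOfLe (hU₀.trans hUD)),
        Monoid.exponent_eq_of_mulEquiv (subgroupOfEquivOfLe hUD), hexp]
    · intro u hu hu1 x hx hux
      rw [hFD] at hx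
      apply Subtype.ext
      exact hfree (u : G) (mem_subgroupOf.mp hu) (fun h => hu1 (Subtype.ext h)) (x : G)
        (mem_subgroupOf.mp hx) (congrArg Subtype.val hux)


theorem isNilpotent_of_comm' {H : Type*} [Group H] (h : IsMulCommutative H) :
    Group.IsNilpotent H := by
  let _ : CommGroup H := { (inferInstance : Group H) with mul_comm := h.is_comm.comm }
  exact CommGroup.isNilpotent

/-- the texts used in the section 16 files -/
structure Sec16 (G : Type u) [Group G] : Prop where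
  hG : Cfsg.IsMinSimpleOddOrder G
  t50 : T1350 G
  t54 : T1354 G
  t55 : T1355 G
  t56 : T1356 G
  t57 : T1357 G
  t58 : T1358 G
  t59 : T1359 G
  t60 : T1360 G
  t61 : T1361 G
  t62 : T1362 G
  t63 : T1363 G
  t64 : T1364 G
  t65 : T1365 G
  t66 : T1366 G
  t68 : T1368 G
  t70 : T1370 G
  t72 : T1372 G

theorem MF_eq_of_U_ne_bot (T : Sec16 G) (hM : IsCoatom M) (h : Cfsg.IsSigmaDecomposition M K U)
    (hU : U ≠ ⊥) : Cfsg.fittingHallOf M = Cfsg.sigmaCore M := by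
  by_contra hne
  exact hU (T.t57 M hM K U h hne).1

/-- `(M')_F = M_σ` when `M' = U M_σ`, `M_F = M_σ`. -/
theorem fittingHallOf_commutator (T : Sec16 G) (hM : IsCoatom M)
    (h : Cfsg.IsSigmaDecomposition M K U) (hD : ⁅M, M⁆ = U ⊔ Cfsg.sigmaCore M)
    (hF : Cfsg.fittingHallOf M = Cfsg.sigmaCore M) :
    Cfsg.fittingHallOf ⁅M, M⁆ = Cfsg.sigmaCore M := by
  have h50 := (T.t50 M hM).1
  have hle : Cfsg.sigmaCore M ≤ ⁅M, M⁆ := hD ▸ le_sup_right
  have hDM : ⁅M, M⁆ ≤ M := commutator_le_self M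
  have hMD : M ≤ normalizer ((⁅M, M⁆ : Subgroup G) : Set G) :=
    le_normalizer_commutator le_normalizer le_normalizer
  apply le_antisymm
  · rw [← hF]
    apply Cfsg.Agent.Lib.Helper56.BG152.le_fittingHallOf
      ((Cfsg.Agent.Lib.Helper29.fittingHallOf_le _).trans hDM)
      (le_normalizer_fittingHallOf_of_le hMD) (fittingHallOf_nilpotent _)
    rw [← relIndex_mul_relIndex _ _ M (Cfsg.Agent.Lib.Helper29.fittingHallOf_le _) hDM]
    apply Nat.Coprime.mul_right (fittingHallOf_coprime _)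
    -- the index of `M'` is `#K`, coprime to `#M'`
    have hc := isComplIn_commutator h hD
    have h1 := (isComplement'_of_isComplIn hc).card_mul_card
    rw [card_subgroupOf hc.1, card_subgroupOf hc.2.1] at h1
    have h2 := card_eq_card_mul_relIndex hDM
    have h3 : (⁅M, M⁆ : Subgroup G).relIndex M = Nat.card K :=
      Nat.eq_of_mul_eq_mul_left Nat.card_pos (h2.symm.trans h1.symm)
    have h4 : K.relIndex M = Nat.card ↥⁅M, M⁆ := by
      have h5 := card_eq_card_mul_relIndex h.hall.1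
      rw [← h1, mul_comm] at h5
      exact (Nat.eq_of_mul_eq_mul_left Nat.card_pos h5).symm
    rw [h3]
    have h6 := coprime_of_hall h.hall
    rw [h4] at h6
    exact (Nat.Coprime.coprime_dvd_right
      (card_dvd_of_le (Cfsg.Agent.Lib.Helper29.fittingHallOf_le _)) h6).symm
  · apply Cfsg.Agent.Lib.Helper56.BG152.le_fittingHallOf hle
      (hDM.trans (le_normalizer_sigmaCore M)) (hF ▸ fittingHallOf_nilpotent M)
    apply Nat.Coprime.coprime_dvd_right _ (coprime_of_hall h50)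
    rw [← relIndex_mul_relIndex _ _ M hle hDM]
    exact Dvd.intro _ rfl

/-- type P data from the standard factorisation, for an arbitrary nilpotent `K`-invariant complement `Ut` of
`M_F` in `M'`. -/
theorem typeP_of (T : Sec16 G) (hM : IsCoatom M) (h : Cfsg.IsSigmaDecomposition M K U)
    (hK : K ≠ ⊥) {Ut : Subgroup G} (hn : Group.IsNilpotent Ut) (hN : K ≤ normalizer (Ut : Set G))
    (hc : Cfsg.IsComplIn (Cfsg.fittingHallOf M) Ut ⁅M, M⁆) :
    Cfsg.IsTypePWith M K Ut (Cfsg.sigmaCore M ⊓ centralizer (K : Set G)) := by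
  obtain ⟨hD, hKs2⟩ := T.t65 M hM K U h hK
  obtain ⟨hKsc, hKs1, hKsF, hFnc⟩ := T.t64 M hM K U h hK
  obtain ⟨h56a, h56b, h56c⟩ := T.t56 M hM
  obtain ⟨-, h54⟩ := T.t54 M hM K h.cyclic h.hall
  obtain ⟨Mst, ⟨hMst, hKst, hKstH⟩, -⟩ := T.t66 M hM K U h hK
  obtain ⟨-, hZc⟩ := T.t68 M hM K U h hK Mst hMst hKst hKstH
  obtain ⟨h70a, h70b⟩ := T.t70 M hM K U h hK
  have hcK := isComplIn_commutator h hD
  have hDM : ⁅M, M⁆ ≤ M := commutator_le_self M
  have hKsK : Cfsg.sigmaCore M ⊓ centralizer (K : Set G) ≤ normalizer (K : Set G) :=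
    inf_le_right.trans (centralizer_le_normalizer' K)
  refine ⟨hK, h.cyclic, coprime_of_hall h.hall, hcK, hn, hN, hc, hFnc, ?_, ?_,
    h56c (kappa_nonempty h hK), le_inf hKsF hKs2, ?_, ?_⟩
  · rw [sup_comm, ← h56b]
    exact h56a
  · rw [sup_comm, ← h56b]
  · intro x hx hx1
    apply le_antisymm
    · intro y hy
      obtain ⟨hy1, hy2⟩ := mem_inf.mp hy
      have h1 : y ∈ K ⊔ (Cfsg.sigmaCore M ⊓ centralizer (K : Set G)) := by
        rw [← h54 hK x hx hx1]
        exact mem_inf.mpr ⟨hDM hy1, hy2⟩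
      obtain ⟨k, hk, c, hc, rfl⟩ := (mem_sup_of_le_normalizer hKsK).mp h1
      have hcD : c ∈ ⁅M, M⁆ := by
        rw [hD]
        exact le_sup_right (a := U) hc.1
      have hk1 : k ∈ ⁅M, M⁆ ⊓ K := by
        refine mem_inf.mpr ⟨?_, hk⟩
        have : k = k * c * c⁻¹ := by group
        rw [this]
        exact mul_mem hy1 (inv_mem hcD)
      rw [hcK.2.2.1, mem_bot] at hk1
      rw [hk1, one_mul]
      exact hc
    · refine le_inf (inf_le_left.trans (hD ▸ le_sup_right)) (inf_le_right.trans ?_)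
      exact Subgroup.centralizer_le (by simpa using hx)
  · apply selfNormalizing_of hK hKs1 _ _ hZc h70a h70b
    · rw [eq_bot_iff, ← dec_K_inf h]
      exact inf_le_inf_left K inf_le_left
    · intro a ha b hb
      exact (mem_centralizer_iff.mp hb.2 a ha)

/-- S1381, direction `←`. -/
theorem typeII_of (T : Sec16 G) (hM : IsCoatom M) (h : Cfsg.IsSigmaDecomposition M K U)
    (hK : K ≠ ⊥) (hU : U ≠ ⊥) :
    Cfsg.IsTypePWith M K U (Cfsg.sigmaCore M ⊓ centralizer (K : Set G)) ∧ U ≠ ⊥ ∧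
      (Nat.card K).Prime ∧ Cfsg.IsTISubset (Cfsg.fittingOf M : Set G) ∧ IsMulCommutative U ∧
      ¬ normalizer (U : Set G) ≤ M ∧ Cfsg.IsOfTypeF ↥⁅M, M⁆ ∧
      Cfsg.fittingHallOf ⁅M, M⁆ = Cfsg.fittingHallOf M := by
  have hF := MF_eq_of_U_ne_bot T hM h hU
  obtain ⟨hD, hKs2⟩ := T.t65 M hM K U h hK
  obtain ⟨hUc, hUN⟩ := T.t63 M hM K U h hK
  obtain ⟨hKsc, hKs1, hKsF, hFnc⟩ := T.t64 M hM K U h hK
  obtain ⟨hKp, hTI, -⟩ := T.t72 M hM K U h hK hU
  obtain ⟨U₀, hU₀, hexp, hfree⟩ := T.t60 M hM K U h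
  have hFD := fittingHallOf_commutator T hM h hD hF
  have hMs : Group.IsSolvable M := solvable_of_ne_top T.hG hM.1
  have hDM : ⁅M, M⁆ ≤ M := commutator_le_self M
  have hσ1 : Cfsg.sigmaCore M ≠ ⊥ := fun hb => hKs1 (by rw [hb, bot_inf_eq])
  refine ⟨typeP_of T hM h hK (isNilpotent_of_comm' hUc) h.normal ?_, hU, hKp, hTI, hUc, hUN, ?_,
    by rw [hFD, hF]⟩
  · rw [hF, hD]
    exact isComplIn_sigmaCore_U h
  · apply isOfTypeF_of (U := U) (U₁ := U) (U₀ := U₀) (isSolvable_of_le hDM hMs)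
      (Odd.of_dvd_nat T.hG.1 (card_subgroup_dvd_card _)) hFD hσ1 hU
      (hD ▸ isComplIn_sigmaCore_U h) le_rfl le_normalizer hUc (fun x _ _ => inf_le_left) hU₀ hexp
    intro u hu hu1 x hx hux
    by_contra hx1
    exact hu1 (hfree u hu ⟨h.compl.1 (hU₀ hu), x, hx, hx1, hux⟩)

end Cfsg.Agent.Lib.Helper2.BG16
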