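import Cfsg.Agent.Lib.Helper2.BG12E
import Cfsg.Agent.Lib.Helper1.Hall
import Cfsg.Agent.Lib.Helper12.Card
import Cfsg.Agent.Lib.Helper40.BG12a

/-!
Tools for Bender-Glauberman 12.18 (statement S1425): Hall subgroups, a relative Frattini argument.
-/

set_option autoImplicit false
set_option linter.unusedSectionVars false

namespace Cfsg.Agent.Lib.Helper2.BG12

open Subgroup Cfsg.Agent.Lib.Helper30 Cfsg.Agent.Lib.Helper2 Cfsg.Agent.Lib.Helper2.BG96

universe u

variable {G : Type u} [Group G]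

theorem exists_conj_le_of_hall {X : Type u} [Group X] [Finite X] [Group.IsSolvable X]
    (N D Y : Subgroup X) [N.Normal] (hN : (Nat.card N).Coprime N.index) (hND : N ⊔ D = ⊤)
    (hY : (Nat.card Y).Coprime (Nat.card N)) : ∃ g : X, cj g Y ≤ D := by
  have hX : Nat.card X = N.index * Nat.card N := by rw [mul_comm]; exact N.card_mul_index.symm
  have hidx : (N ⊓ D).relIndex D = N.index := by
    rw [inf_relIndex_right, ← relIndex_sup_left, hND, relIndex_top_right]
  have hD : Nat.card D = N.index * Nat.card (N ⊓ D : Subgroup X) := by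
    rw [card_eq_card_mul_relIndex (inf_le_right : N ⊓ D ≤ D), hidx, mul_comm]
  have hcopD : N.index.Coprime (Nat.card (N ⊓ D : Subgroup X)) :=
    Nat.Coprime.coprime_dvd_right (card_dvd_of_le inf_le_left) hN.symm
  obtain ⟨H0, hH0⟩ := Cfsg.Agent.Lib.Helper1.hall_exists (G := D) N.index _ hD hcopD
  have hH : Nat.card (H0.map D.subtype) = N.index := by
    rw [card_map_of_injective D.subtype_injective, hH0]
  obtain ⟨H1, hH1, hYH1⟩ := Cfsg.Agent.Lib.Helper1.hall_dominance N.index (Nat.card N) hX hN.symm Y hY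
  obtain ⟨g, hg⟩ := Cfsg.Agent.Lib.Helper1.hall_conj N.index (Nat.card N) hX hN.symm H1 _ hH1 hH
  refine ⟨g, (cj_mono g hYH1).trans ?_⟩
  rw [cj_eq_smul, hg]
  exact map_subtype_le _

theorem exists_cj_le [Finite G] {L N D Y : Subgroup G} (hsol : Group.IsSolvable L) (hNL : N ≤ L)
    (hn : L ≤ normalizer (N : Set G)) (hHall : (Nat.card N).Coprime (N.relIndex L)) (hDL : D ≤ L)
    (hfac : ∀ l ∈ L, ∃ a ∈ N, ∃ d ∈ D, l = a * d) (hYL : Y ≤ L)
    (hY : (Nat.card Y).Coprime (Nat.card N)) : ∃ g ∈ L, cj g Y ≤ D := by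
  have hnorm : (N.subgroupOf L).Normal := (normal_subgroupOf_iff_le_normalizer hNL).mpr hn
  obtain ⟨g, hg⟩ := exists_conj_le_of_hall (N.subgroupOf L) (D.subgroupOf L) (Y.subgroupOf L)
    (by rw [card_subgroupOf hNL]; exact hHall)
    (by
      rw [eq_top_iff]
      intro l _
      obtain ⟨a, ha, d, hd, hl⟩ := hfac l l.2
      have : l = (⟨a, hNL ha⟩ : L) * ⟨d, hDL hd⟩ := Subtype.ext hl
      rw [this]
      exact mul_mem (mem_sup_left (mem_subgroupOf.mpr ha)) (mem_sup_right (mem_subgroupOf.mpr hd)))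
    (by rw [card_subgroupOf hYL, card_subgroupOf hNL]; exact hY)
  refine ⟨g, g.2, ?_⟩
  intro y hy
  rw [mem_cj] at hy
  have hyL : y ∈ L := by
    have h1 := hYL hy
    have : y = (g : G) * ((g : G)⁻¹ * y * g) * (g : G)⁻¹ := by group
    rw [this]
    exact mul_mem (mul_mem g.2 h1) (inv_mem g.2)
  have h2 : (⟨y, hyL⟩ : L) ∈ cj g (Y.subgroupOf L) := by
    rw [mem_cj, mem_subgroupOf]
    exact hy
  exact mem_subgroupOf.mp (hg h2)

/-- a `π`-subgroup of `M` lies in a normal Hall `π`-subgroup. -/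
theorem le_of_coprime_relIndex [Finite G] {M N Y : Subgroup G} (hNM : N ≤ M)
    (hn : M ≤ normalizer (N : Set G)) (hYM : Y ≤ M) (hY : (Nat.card Y).Coprime (N.relIndex M)) :
    Y ≤ N := by
  have hnorm : (N.subgroupOf M).Normal := (normal_subgroupOf_iff_le_normalizer hNM).mpr hn
  intro y hy
  have h1 : (⟨y, hYM hy⟩ : M) ∈ N.subgroupOf M := by
    apply Cfsg.Agent.Lib.Helper40.BG12.mem_of_normal_of_coprime
    refine Nat.Coprime.coprime_dvd_left ?_ hY
    have : orderOf (⟨y, hYM hy⟩ : M) = orderOf y := Subgroup.orderOf_mk y (hYM hy)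
    rw [this]
    exact Subgroup.orderOf_dvd_natCard Y hy
  exact mem_subgroupOf.mp h1

/-- relative Frattini argument. -/
theorem frattini_rel [Finite G] {q : ℕ} [Fact q.Prime] {L N A : Subgroup G}
    (hAN : A ≤ normalizer (N : Set G)) (hn : L ≤ normalizer ((N ⊔ A : Subgroup G) : Set G))
    (hA : IsPGroup q A) (hNq : (Nat.card N).Coprime q) :
    ∀ l ∈ L, ∃ a ∈ N, ∃ d ∈ normalizer (A : Set G), l = a * d := by
  have hsyl : IsSylowIn q A (N ⊔ A) := by
    refine ⟨le_sup_right, hA, ?_⟩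
    intro hd
    have h1 := Cfsg.Agent.Lib.Helper12.card_sup_mul_card_inf' A N hAN
    have h2 := card_eq_card_mul_relIndex (le_sup_right : A ≤ N ⊔ A)
    rw [sup_comm] at h1
    have h3 : A.relIndex (N ⊔ A) ∣ Nat.card N := by
      have h4 : Nat.card A * (A.relIndex (N ⊔ A) * Nat.card (A ⊓ N : Subgroup G)) =
          Nat.card A * Nat.card N := by
        rw [← h1, h2]; ring
      have h5 := Nat.eq_of_mul_eq_mul_left Nat.card_pos h4
      exact Dvd.intro _ h5
    have h6 := Nat.Coprime.eq_one_of_dvd hNq.symm (hd.trans h3)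
    exact (Fact.out : q.Prime).one_lt.ne' h6
  intro l hl
  have h1 : IsSylowIn q (cj l A) (N ⊔ A) := by
    have := hsyl.cj l
    rwa [cj_eq_of_mem_normalizer (hn hl)] at this
  obtain ⟨k, hk, hkA⟩ := hsyl.conj h1
  obtain ⟨s, hs, a, ha, rfl⟩ := (mem_sup_of_le_normalizer hAN).mp hk
  refine ⟨s, hs, a * ((s * a)⁻¹ * l), ?_, by group⟩
  apply mul_mem (le_normalizer ha)
  apply mem_normalizer_of_cj_eq
  rw [cj_mul, hkA, cj_inv_cj]

end Cfsg.Agent.Lib.Helper2.BG12
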