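import Cfsg.Agent.Lib.Helper2.BG139Defs

/-!
Ladder BG139 (B-G 13.9), rungs R0, R1, R2.
-/

set_option autoImplicit false
set_option linter.unusedSectionVars false
set_option linter.unusedVariables false

namespace Cfsg.Agent.Lib.Helper2.BG139

open Subgroup Cfsg.Agent.Lib.Helper30 Cfsg.Agent.Lib.Helper2 Cfsg.Agent.Lib.Helper2.BG12
  Cfsg.Agent.Lib.Helper68

universe u

variable {G : Type u} [Group G]

theorem isSylowIn_of_top {q : ℕ} {S M : Subgroup G} (hS : IsSylowIn q S ⊤) (hSM : S ≤ M) :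
    IsSylowIn q S M := by
  refine ⟨hSM, hS.isPGroup, fun hd => hS.not_dvd ?_⟩
  rw [← relIndex_mul_relIndex S M ⊤ hSM le_top]
  exact Dvd.dvd.mul_right hd _

/-! RUNG R0 (step 0) -/
theorem exists_cfg [Finite G] (T : Texts G) {M N : Subgroup G} (hM : IsCoatom M) (hN : IsCoatom N)
    (hnc : ∀ g : G, N ≠ cj g M) {q : ℕ} (hqM : q ∈ Cfsg.sigma M) (hqN : q ∈ Cfsg.sigma N) :
    ∃ N' S : Subgroup G, Cfg q M N' S := by
  have : Fact q.Prime := ⟨hqM.1⟩
  obtain ⟨S1, hS1⟩ := exists_isSylowIn q M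
  obtain ⟨S2, hS2⟩ := exists_isSylowIn q N
  have hS1t := sylow_top_of_mem_sigma hqM hS1
  have hS2t := sylow_top_of_mem_sigma hqN hS2
  obtain ⟨g, -, hg⟩ := hS2t.conj hS1t
  have hN1 := normalizer_le_of_mem_sigma hqM hS1
  have hN2 := normalizer_le_of_mem_sigma hqN hS2
  have hN2' : normalizer (S1 : Set G) ≤ cj g N := by
    rw [hg, normalizer_cj]
    exact cj_mono g hN2
  have hS1ne : S1 ≠ ⊥ := by
    intro h
    apply hS1.not_dvd
    rw [h, relIndex_bot_left]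
    exact hqM.2.1
  refine ⟨cj g N, S1, hM, Cfsg.Agent.Lib.Helper58.BG9.isCoatom_cj hN g, ?_, hqM, ?_, hS1t, hN1, hN2'⟩
  · intro k hk
    apply hnc (g⁻¹ * k)
    rw [cj_mul, ← hk, cj_inv_cj]
  · exact mem_sigma_of_normalizer_le (isSylowIn_of_top hS1t (le_normalizer.trans hN2')) hS1ne hN2'

theorem Cfg.ne {q : ℕ} {M N S : Subgroup G} (h : Cfg q M N S) : N ≠ M := by
  intro hh
  apply h.hnc 1
  rw [cj_one, hh]

theorem Cfg.prime {q : ℕ} {M N S : Subgroup G} (h : Cfg q M N S) : q.Prime := h.hqM.1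

theorem Cfg.sylM {q : ℕ} {M N S : Subgroup G} (h : Cfg q M N S) : IsSylowIn q S M :=
  isSylowIn_of_top h.hS (le_normalizer.trans h.hDM)

theorem Cfg.S_ne_bot {q : ℕ} {M N S : Subgroup G} (h : Cfg q M N S) : S ≠ ⊥ := by
  intro hh
  apply h.sylM.not_dvd
  rw [hh, relIndex_bot_left]
  exact h.hqM.2.1

/-! RUNG R1 (step 1) -/
theorem Cfg.not_uniq [Finite G] {q : ℕ} {M N S : Subgroup G} (h : Cfg q M N S) {X : Subgroup G}
    (hX : X ≤ normalizer (S : Set G)) : ¬ Cfsg.InUniqueMaximal X := fun hU =>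
  h.ne (uniq_eq hU h.hM (hX.trans h.hDM) h.hN (hX.trans h.hDN))

theorem Cfg.comm [Finite G] (T : Texts G) {q : ℕ} {M N S : Subgroup G} (h : Cfg q M N S) :
    IsMulCommutative S := by
  have : Fact q.Prime := ⟨h.prime⟩
  by_contra hna
  exact h.not_uniq le_normalizer (T.t22 q S h.hS.isPGroup hna)

theorem Cfg.not_alpha [Finite G] (T : Texts G) {q : ℕ} {M N S : Subgroup G} (h : Cfg q M N S) :
    Cfsg.PRankLE q 2 S ∧ q ∉ Cfsg.alpha M := by
  have : Fact q.Prime := ⟨h.prime⟩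
  have h1 : Cfsg.PRankLE q 2 S := by
    by_contra hr
    obtain ⟨E, hES, hE, hEc⟩ := exists_elementary_of_not_pRankLE hr
    exact h.not_uniq (hES.trans le_normalizer)
      (uniq_of_ea_cube T.hU h.hM (hES.trans h.sylM.le) hE hEc)
  exact ⟨h1, fun hα => hα.2 (pRankLE_of_sylow h.sylM h1)⟩

theorem Cfg.le_sigmaCore [Finite G] (T : Texts G) {q : ℕ} {M N S : Subgroup G} (h : Cfg q M N S) :
    S ≤ Cfsg.sigmaCore M := by
  have : Fact q.Prime := ⟨h.prime⟩
  obtain ⟨hle, hπ, hidx⟩ := T.t50 M h.hM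
  apply le_of_coprime_relIndex hle (le_normalizer_piCoreOf (Cfsg.sigma M) M) h.sylM.le
  obtain ⟨k, hk⟩ := IsPGroup.iff_card.mp h.hS.isPGroup
  rw [hk]
  apply Nat.Coprime.pow_left
  rw [Nat.Prime.coprime_iff_not_dvd h.prime]
  exact hidx q h.prime h.hqM

theorem Cfg.inf_commutator [Finite G] (T : Texts G) {q : ℕ} {M N S : Subgroup G}
    (h : Cfg q M N S) : S ⊓ ⁅Cfsg.sigmaCore M, Cfsg.sigmaCore M⁆ = ⊥ := by
  have : Fact q.Prime := ⟨h.prime⟩
  by_contra hne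
  have hp : IsPGroup q ↥(S ⊓ ⁅Cfsg.sigmaCore M, Cfsg.sigmaCore M⁆) :=
    h.hS.isPGroup.to_le inf_le_left
  obtain ⟨X, hX, hXc⟩ := Cfsg.Agent.Lib.Helper58.BG9.exists_le_card_eq hp (k := 1) (by
    rw [pow_one]
    exact Nat.le_of_dvd Nat.card_pos (dvd_card_of_isPGroup_ne_bot hp hne))
  rw [pow_one] at hXc
  have hSs : IsSylowIn q S (Cfsg.sigmaCore M) :=
    isSylowIn_of_top h.hS (h.le_sigmaCore T)
  obtain ⟨P, hP⟩ := hSs.exists_sylow
  have := (T.t23 M h.hM q h.hqM X (hX.trans (inf_le_left.trans h.sylM.le)) hXc P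
    (Or.inr (hX.trans inf_le_right))).2.1
  rw [hP] at this
  exact h.not_uniq le_normalizer this

/-! RUNG R2 (step 2) -/
theorem Cfg.not_nilpotent [Finite G] (T : Texts G) {q : ℕ} {M N S : Subgroup G} (h : Cfg q M N S) :
    ¬ Group.IsNilpotent (Cfsg.sigmaCore M) := fun hnil =>
  sigma_disjoint_of_nilpotent T.hG T.t50 h.hN h.hM h.symm.hnc hnil h.hqN h.hqM

theorem Cfg.tau2_empty [Finite G] (T : Texts G) {q : ℕ} {M N S : Subgroup G} (h : Cfg q M N S)
    {p : ℕ} : p ∉ Cfsg.tau2 M := by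
  intro hp
  have : Fact p.Prime := ⟨hp.1⟩
  obtain ⟨E, hEM, hE, hEc⟩ := exists_elementary_of_not_pRankLE hp.2.2.2
  have hEp : IsPGroup p E := ea_isPGroup hE
  obtain ⟨A, hA, hAc⟩ := Cfsg.Agent.Lib.Helper58.BG9.exists_le_card_eq hEp (k := 2) (by
    obtain ⟨k, hk⟩ := IsPGroup.iff_card.mp hEp
    rw [hk] at hEc ⊢
    have := (Nat.pow_lt_pow_iff_right hp.1.one_lt).mp hEc
    exact Nat.pow_le_pow_right hp.1.pos this)
  exact h.not_nilpotent T (T.t17 M h.hM p hp A ⟨hA.trans hEM, ea_of_le hE hA, hAc⟩).1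

theorem sigmaCore_le_commutator [Finite G] (T : Texts G) {M : Subgroup G} (hM : IsCoatom M) :
    Cfsg.sigmaCore M ≤ ⁅M, M⁆ := by
  obtain ⟨hle, hπ, hidx⟩ := T.t50 M hM
  apply le_of_forall_isSylowIn
  intro p _ hp
  obtain ⟨S, hS⟩ := exists_isSylowIn p (Cfsg.sigmaCore M)
  have hpσ := hπ p Fact.out hp
  exact ⟨S, hS, sylow_le_commutator_of_mem_sigma T.hG T.hU hM hpσ (sylow_sigmaCore T.t50 hM hpσ hS).1⟩

theorem Cfg.alphaCore_ne_bot [Finite G] (T : Texts G) {q : ℕ} {M N S : Subgroup G}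
    (h : Cfg q M N S) : Cfsg.alphaCore M ≠ ⊥ := by
  intro hbot
  apply h.not_nilpotent T
  have h1 : Cfsg.piCore (Cfsg.alpha M) ↥M = ⊥ := by
    have : (Cfsg.piCore (Cfsg.alpha M) ↥M).map M.subtype = ⊥ := hbot
    exact (map_eq_bot_iff_of_injective _ M.subtype_injective).mp this
  have h2 := T.t05n M h.hM
  have hinj : Function.Injective (QuotientGroup.mk' (Cfsg.piCore (Cfsg.alpha M) ↥M)) := by
    rw [← MonoidHom.ker_eq_bot_iff, QuotientGroup.ker_mk', h1]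
  have h3 : Group.IsNilpotent ↥(commutator ↥M) :=
    (Group.isNilpotent_congr (equivMapOfInjective (commutator ↥M) _ hinj)).mpr h2
  have h4 : Group.IsNilpotent ↥((commutator ↥M).map M.subtype) :=
    (Group.isNilpotent_congr (equivMapOfInjective (commutator ↥M) _ M.subtype_injective)).mp h3
  have h5 : (commutator ↥M).map M.subtype = ⁅M, M⁆ := by
    rw [commutator_def, map_commutator, ← MonoidHom.range_eq_map, M.range_subtype]
  rw [h5] at h4
  have h6 := sigmaCore_le_commutator T h.hM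
  have h7 : Group.IsNilpotent ↥((Cfsg.sigmaCore M).subgroupOf ⁅M, M⁆) := inferInstance
  exact (Group.isNilpotent_congr (subgroupOfEquivOfLe h6)).mp h7

end Cfsg.Agent.Lib.Helper2.BG139
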