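import Cfsg.Agent.Lib.Helper2.BG139A

/-!
Ladder BG139 (B-G 13.9): the rungs R1, R2, R3 from `Texts0 G` (= `Texts G` WITHOUT the texts of S1427, S1428),
so that they can be used in the proof of S1428.  Rung R3.
-/

set_option autoImplicit false
set_option linter.unusedSectionVars false
set_option linter.unusedVariables false

namespace Cfsg.Agent.Lib.Helper2.BG139

open Subgroup Cfsg.Agent.Lib.Helper30 Cfsg.Agent.Lib.Helper2 Cfsg.Agent.Lib.Helper2.BG12
  Cfsg.Agent.Lib.Helper68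

universe u

variable {G : Type u} [Group G]

/-- The texts up to S1423 used in the proof of B-G 13.9. -/
structure Texts0 (G : Type u) [Group G] : Prop where
  hG : Cfsg.IsMinSimpleOddOrder G
  hU : UT G
  t04 : T1404 G
  t05 : T1405 G
  t05n : T1405n G
  t06 : T1406 G
  t09 : T1409 G
  t11 : T1411 G
  t14 : T1414 G
  t15 : T1415 G
  t17 : T1417ac G
  t22 : T1422 G
  t23 : T1423 G
  t50 : T1350a G

theorem Texts.to0 (T : Texts G) : Texts0 G :=
  ⟨T.hG, T.hU, T.t04, T.t05, T.t05n, T.t06, T.t09, T.t11, T.t14, T.t15, T.t17, T.t22, T.t23, T.t50⟩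

/-- constructor: `M ≠ N` is enough (non-conjugacy follows). -/
theorem Cfg.of_ne [Finite G] {q : ℕ} {M N S : Subgroup G} (hM : IsCoatom M) (hN : IsCoatom N)
    (hne : N ≠ M) (hqM : q ∈ Cfsg.sigma M) (hqN : q ∈ Cfsg.sigma N) (hS : IsSylowIn q S ⊤)
    (hSM : S ≤ M) (hSN : S ≤ N) : Cfg q M N S := by
  have : Fact q.Prime := ⟨hqM.1⟩
  have hDM := normalizer_le_of_mem_sigma hqM (isSylowIn_of_top hS hSM)
  have hDN := normalizer_le_of_mem_sigma hqN (isSylowIn_of_top hS hSN)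
  refine ⟨hM, hN, ?_, hqM, hqN, hS, hDM, hDN⟩
  intro g hg
  have h1 : cj g⁻¹ S ≤ M := by
    have := cj_mono g⁻¹ hSN
    rwa [hg, cj_inv_cj] at this
  have h2 : IsSylowIn q (cj g⁻¹ S) M := by
    refine isSylowIn_of_top ?_ h1
    have := hS.cj g⁻¹
    rwa [show cj g⁻¹ (⊤ : Subgroup G) = ⊤ from
      eq_top_iff.mpr fun x _ => mem_cj.mpr (mem_top _)] at this
  obtain ⟨m, hm, hmS⟩ := (isSylowIn_of_top hS hSM).conj h2
  have h3 : g * m ∈ normalizer (S : Set G) := by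
    apply mem_normalizer_of_cj_eq
    rw [cj_mul, ← hmS, cj_cj_inv]
  have h4 : g ∈ M := by
    have := M.mul_mem (hDM h3) (M.inv_mem hm)
    simpa using this
  exact hne (by rw [hg, cj_eq_of_mem h4])

theorem Cfg.comm0 [Finite G] (T : Texts0 G) {q : ℕ} {M N S : Subgroup G} (h : Cfg q M N S) :
    IsMulCommutative S := by
  have : Fact q.Prime := ⟨h.prime⟩
  by_contra hna
  exact h.not_uniq le_normalizer (T.t22 q S h.hS.isPGroup hna)

theorem Cfg.not_alpha0 [Finite G] (T : Texts0 G) {q : ℕ} {M N S : Subgroup G} (h : Cfg q M N S) :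
    Cfsg.PRankLE q 2 S ∧ q ∉ Cfsg.alpha M := by
  have : Fact q.Prime := ⟨h.prime⟩
  have h1 : Cfsg.PRankLE q 2 S := by
    by_contra hr
    obtain ⟨E, hES, hE, hEc⟩ := exists_elementary_of_not_pRankLE hr
    exact h.not_uniq (hES.trans le_normalizer)
      (uniq_of_ea_cube T.hU h.hM (hES.trans h.sylM.le) hE hEc)
  exact ⟨h1, fun hα => hα.2 (pRankLE_of_sylow h.sylM h1)⟩

theorem Cfg.le_sigmaCore0 [Finite G] (T : Texts0 G) {q : ℕ} {M N S : Subgroup G} (h : Cfg q M N S) :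
    S ≤ Cfsg.sigmaCore M := by
  have : Fact q.Prime := ⟨h.prime⟩
  obtain ⟨hle, hπ, hidx⟩ := T.t50 M h.hM
  apply le_of_coprime_relIndex hle (le_normalizer_piCoreOf (Cfsg.sigma M) M) h.sylM.le
  obtain ⟨k, hk⟩ := IsPGroup.iff_card.mp h.hS.isPGroup
  rw [hk]
  apply Nat.Coprime.pow_left
  rw [Nat.Prime.coprime_iff_not_dvd h.prime]
  exact hidx q h.prime h.hqM

theorem Cfg.inf_commutator0 [Finite G] (T : Texts0 G) {q : ℕ} {M N S : Subgroup G}
    (h : Cfg q M N S) : S ⊓ ⁅Cfsg.sigmaCore M, Cfsg.sigmaCore M⁆ = ⊥ := by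
  have : Fact q.Prime := ⟨h.prime⟩
  by_contra hne
  have hp : IsPGroup q ↥(S ⊓ ⁅Cfsg.sigmaCore M, Cfsg.sigmaCore M⁆) :=
    h.hS.isPGroup.to_le inf_le_left
  obtain ⟨X, hX, hXc⟩ := Cfsg.Agent.Lib.Helper58.BG9.exists_le_card_eq hp (k := 1) (by
    rw [pow_one]
    exact Nat.le_of_dvd Nat.card_pos (dvd_card_of_isPGroup_ne_bot hp hne))
  rw [pow_one] at hXc
  have hSs : IsSylowIn q S (Cfsg.sigmaCore M) :=
    isSylowIn_of_top h.hS (h.le_sigmaCore0 T)
  obtain ⟨P, hP⟩ := hSs.exists_sylow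
  have := (T.t23 M h.hM q h.hqM X (hX.trans (inf_le_left.trans h.sylM.le)) hXc P
    (Or.inr (hX.trans inf_le_right))).2.1
  rw [hP] at this
  exact h.not_uniq le_normalizer this

/-! RUNG R2 (step 2) -/
theorem Cfg.not_nilpotent0 [Finite G] (T : Texts0 G) {q : ℕ} {M N S : Subgroup G} (h : Cfg q M N S) :
    ¬ Group.IsNilpotent (Cfsg.sigmaCore M) := fun hnil =>
  sigma_disjoint_of_nilpotent T.hG T.t50 h.hN h.hM h.symm.hnc hnil h.hqN h.hqM

theorem Cfg.tau2_empty0 [Finite G] (T : Texts0 G) {q : ℕ} {M N S : Subgroup G} (h : Cfg q M N S)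
    {p : ℕ} : p ∉ Cfsg.tau2 M := by
  intro hp
  have : Fact p.Prime := ⟨hp.1⟩
  obtain ⟨E, hEM, hE, hEc⟩ := exists_elementary_of_not_pRankLE hp.2.2.2
  have hEp : IsPGroup p E := ea_isPGroup hE
  obtain ⟨A, hA, hAc⟩ := Cfsg.Agent.Lib.Helper58.BG9.exists_le_card_eq hEp (k := 2) (by
    obtain ⟨k, hk⟩ := IsPGroup.iff_card.mp hEp
    rw [hk] at hEc ⊢
    have := (Nat.pow_lt_pow_iff_right hp.1.one_lt).mp hEc
    exact Nat.pow_le_pow_right hp.1.pos this)
  exact h.not_nilpotent0 T (T.t17 M h.hM p hp A ⟨hA.trans hEM, ea_of_le hE hA, hAc⟩).1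

theorem sigmaCore_le_commutator0 [Finite G] (T : Texts0 G) {M : Subgroup G} (hM : IsCoatom M) :
    Cfsg.sigmaCore M ≤ ⁅M, M⁆ := by
  obtain ⟨hle, hπ, hidx⟩ := T.t50 M hM
  apply le_of_forall_isSylowIn
  intro p _ hp
  obtain ⟨S, hS⟩ := exists_isSylowIn p (Cfsg.sigmaCore M)
  have hpσ := hπ p Fact.out hp
  exact ⟨S, hS, sylow_le_commutator_of_mem_sigma T.hG T.hU hM hpσ (sylow_sigmaCore T.t50 hM hpσ hS).1⟩

theorem Cfg.alphaCore_ne_bot0 [Finite G] (T : Texts0 G) {q : ℕ} {M N S : Subgroup G}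
    (h : Cfg q M N S) : Cfsg.alphaCore M ≠ ⊥ := by
  intro hbot
  apply h.not_nilpotent0 T
  have h1 : Cfsg.piCore (Cfsg.alpha M) ↥M = ⊥ := by
    have : (Cfsg.piCore (Cfsg.alpha M) ↥M).map M.subtype = ⊥ := hbot
    exact (map_eq_bot_iff_of_injective _ M.subtype_injective).mp this
  have h2 := T.t05n M h.hM
  have hinj : Function.Injective (QuotientGroup.mk' (Cfsg.piCore (Cfsg.alpha M) ↥M)) := by
    rw [← MonoidHom.ker_eq_bot_iff, QuotientGroup.ker_mk', h1]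
  have h3 : Group.IsNilpotent ↥(commutator ↥M) :=
    (Group.isNilpotent_congr (equivMapOfInjective (commutator ↥M) _ hinj)).mpr h2
  have h4 : Group.IsNilpotent ↥((commutator ↥M).map M.subtype) :=
    (Group.isNilpotent_congr (equivMapOfInjective (commutator ↥M) _ M.subtype_injective)).mp h3
  have h5 : (commutator ↥M).map M.subtype = ⁅M, M⁆ := by
    rw [commutator_def, map_commutator, ← MonoidHom.range_eq_map, M.range_subtype]
  rw [h5] at h4
  have h6 := sigmaCore_le_commutator0 T h.hM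
  have h7 : Group.IsNilpotent ↥((Cfsg.sigmaCore M).subgroupOf ⁅M, M⁆) := inferInstance
  exact (Group.isNilpotent_congr (subgroupOfEquivOfLe h6)).mp h7


/-! RUNG R3 (step 3) -/
theorem beta_subset_alpha {M : Subgroup G} {r : ℕ} (h : r ∈ Cfsg.beta M) : r ∈ Cfsg.alpha M := h.1

theorem le_normalizer_of_nilpotent [Finite G] {q : ℕ} [Fact q.Prime] {S H : Subgroup G}
    (hS : IsSylowIn q S H) (hH : Group.IsNilpotent H) : H ≤ normalizer (S : Set G) := by
  obtain ⟨P, hP⟩ := hS.exists_sylow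
  have hn : (P : Subgroup H).Normal := inferInstance
  rw [← hP]
  exact Cfsg.Agent.Lib.Helper28.le_normalizer_map_subtype hn

theorem frattini_sylow [Finite G] {q : ℕ} [Fact q.Prime] {S K M : Subgroup G}
    (hS : IsSylowIn q S K) (hn : M ≤ normalizer (K : Set G)) :
    ∀ m ∈ M, ∃ k ∈ K, ∃ d ∈ normalizer (S : Set G), m = k * d := by
  intro m hm
  have h1 := hS.cj m
  rw [cj_eq_of_mem_normalizer (hn hm)] at h1
  obtain ⟨k, hk, hkS⟩ := hS.conj h1
  refine ⟨k, hk, k⁻¹ * m, ?_, by group⟩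
  apply mem_normalizer_of_cj_eq
  rw [cj_mul, hkS, cj_inv_cj]

theorem betaCore_le_sigmaCore [Finite G] (T : Texts0 G) {M : Subgroup G} (hM : IsCoatom M) :
    Cfsg.piCoreOf (Cfsg.beta M) M ≤ Cfsg.sigmaCore M := by
  apply le_piCoreOf (piCoreOf_le _ _) (le_normalizer_piCoreOf _ _)
  intro p hp hd
  exact mem_sigma_of_mem_alpha T.hG T.hU hM (piCoreOf_isPi (Cfsg.beta M) M p hp hd).1

theorem Cfg.factor0 [Finite G] (T : Texts0 G) {q : ℕ} {M N S : Subgroup G} (h : Cfg q M N S) :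
    ∀ m ∈ M, ∃ b ∈ Cfsg.piCoreOf (Cfsg.beta M) M, ∃ d ∈ normalizer (S : Set G), m = b * d := by
  have : Fact q.Prime := ⟨h.prime⟩
  obtain ⟨hMb, H, hH, hHnil⟩ := T.t14 M h.hM
  have hqβ : q ∉ Cfsg.beta M := fun hb => (h.not_alpha0 T).2 hb.1
  have hSs : IsSylowIn q S (Cfsg.sigmaCore M) := isSylowIn_of_top h.hS (h.le_sigmaCore0 T)
  obtain ⟨S1, hS1⟩ := exists_isSylowIn q H
  have hS1s : IsSylowIn q S1 (Cfsg.sigmaCore M) := by
    refine ⟨hS1.le.trans hH.1, hS1.isPGroup, ?_⟩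
    rw [← relIndex_mul_relIndex S1 H _ hS1.le hH.1]
    intro hd
    rcases (Nat.Prime.dvd_mul h.prime).mp hd with h' | h'
    · exact hS1.not_dvd h'
    · exact hH.2.2 q h.prime ⟨h.prime, hqβ⟩ h'
  obtain ⟨m0, hm0, hm0S⟩ := hS1s.conj hSs
  have hH1nil : Group.IsNilpotent ↥(cj m0 H) :=
    (Group.isNilpotent_congr (equivMapOfInjective H _ (MulAut.conj m0).injective)).mp hHnil
  have hS1' : IsSylowIn q S (cj m0 H) := hm0S ▸ hS1.cj m0
  have hH1N : cj m0 H ≤ normalizer (S : Set G) := le_normalizer_of_nilpotent hS1' hH1nil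
  have hH1le : cj m0 H ≤ Cfsg.sigmaCore M := by
    have := cj_mono m0 hH.1
    rwa [cj_eq_of_mem hm0] at this
  have hMbs := betaCore_le_sigmaCore T h.hM
  have hsup : Cfsg.sigmaCore M ≤ Cfsg.piCoreOf (Cfsg.beta M) M ⊔ cj m0 H := by
    apply le_of_forall_isSylowIn
    intro p _ hp
    by_cases hpβ : p ∈ Cfsg.beta M
    · obtain ⟨R, hR⟩ := exists_isSylowIn p (Cfsg.piCoreOf (Cfsg.beta M) M)
      refine ⟨R, ⟨hR.le.trans hMbs, hR.isPGroup, ?_⟩, hR.le.trans le_sup_left⟩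
      intro hd
      have h1 : p ∣ R.relIndex M := by
        rw [← relIndex_mul_relIndex R _ M (hR.le.trans hMbs) (piCoreOf_le _ _)]
        exact Dvd.dvd.mul_right hd _
      rw [← relIndex_mul_relIndex R _ M hR.le hMb.1] at h1
      rcases (Nat.Prime.dvd_mul Fact.out).mp h1 with h' | h'
      · exact hR.not_dvd h'
      · exact hMb.2.2 p Fact.out hpβ h'
    · obtain ⟨R, hR⟩ := exists_isSylowIn p (cj m0 H)
      refine ⟨R, ⟨hR.le.trans hH1le, hR.isPGroup, ?_⟩, hR.le.trans le_sup_right⟩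
      rw [← relIndex_mul_relIndex R _ _ hR.le hH1le]
      intro hd
      rcases (Nat.Prime.dvd_mul Fact.out).mp hd with h' | h'
      · exact hR.not_dvd h'
      · have h2 : (cj m0 H).relIndex (Cfsg.sigmaCore M) = H.relIndex (Cfsg.sigmaCore M) := by
          conv_lhs => rw [← cj_eq_of_mem hm0]
          exact relIndex_cj _ _ _
        rw [h2] at h'
        exact hH.2.2 p Fact.out ⟨Fact.out, hpβ⟩ h'
  intro m hm
  obtain ⟨k, hk, d, hd, rfl⟩ := frattini_sylow hSs (le_normalizer_piCoreOf (Cfsg.sigma M) M) m hm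
  obtain ⟨b, hb, x, hx, rfl⟩ := (mem_sup_of_le_normalizer
    (hH1le.trans ((piCoreOf_le _ _).trans (le_normalizer_piCoreOf (Cfsg.beta M) M)))).mp (hsup hk)
  exact ⟨b, hb, x * d, mul_mem (hH1N hx) hd, by group⟩

theorem Cfg.alpha_eq_beta0 [Finite G] (T : Texts0 G) {q : ℕ} {M N S : Subgroup G}
    (h : Cfg q M N S) : Cfsg.alpha M = Cfsg.beta M := by
  ext r
  refine ⟨fun hr => ?_, fun hr => hr.1⟩
  by_contra hrβ
  have : Fact r.Prime := ⟨hr.1⟩
  obtain ⟨hMb, -⟩ := T.t14 M h.hM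
  obtain ⟨E, hEM, hE, hEc⟩ := exists_elementary_of_not_pRankLE hr.2
  have hcop : (Nat.card E).Coprime (Nat.card (Cfsg.piCoreOf (Cfsg.beta M) M)) := by
    obtain ⟨k, hk⟩ := IsPGroup.iff_card.mp (ea_isPGroup hE)
    rw [hk]
    apply Nat.Coprime.pow_left
    rw [Nat.Prime.coprime_iff_not_dvd hr.1]
    exact fun hd => hrβ (hMb.2.1 r hr.1 hd)
  obtain ⟨g, hg, hgE⟩ := exists_cj_le (solvable_of_ne_top T.hG h.hM.1) hMb.1
    (le_normalizer_piCoreOf _ _) (coprime_of_hall hMb) h.hDM (h.factor0 T) hEM hcop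
  exact h.not_uniq hgE (uniq_of_ea_cube T.hU h.hM (hgE.trans h.hDM) (ea_cj hE g)
    (by rw [card_cj]; exact hEc))

theorem Cfg.alphaCore_eq0 [Finite G] (T : Texts0 G) {q : ℕ} {M N S : Subgroup G}
    (h : Cfg q M N S) : Cfsg.alphaCore M = Cfsg.piCoreOf (Cfsg.beta M) M := by
  rw [Cfsg.alphaCore, Cfsg.piCoreOf, h.alpha_eq_beta0 T]

theorem Cfg.factor [Finite G] (T : Texts G) {q : ℕ} {M N S : Subgroup G} (h : Cfg q M N S) :
    ∀ m ∈ M, ∃ b ∈ Cfsg.piCoreOf (Cfsg.beta M) M, ∃ d ∈ normalizer (S : Set G), m = b * d :=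
  h.factor0 T.to0

theorem Cfg.alpha_eq_beta [Finite G] (T : Texts G) {q : ℕ} {M N S : Subgroup G}
    (h : Cfg q M N S) : Cfsg.alpha M = Cfsg.beta M := h.alpha_eq_beta0 T.to0

end Cfsg.Agent.Lib.Helper2.BG139
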