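import Cfsg.Agent.Lib.Helper2.BG139R5
import Cfsg.Agent.Lib.Helper56.BG11_7

/-!
Ladder BG139: `Core1428 G` follows from the text of S1428.
-/

set_option autoImplicit false
set_option linter.unusedSectionVars false

namespace Cfsg.Agent.Lib.Helper2.BG139

open Subgroup Cfsg.Agent.Lib.Helper30 Cfsg.Agent.Lib.Helper2 Cfsg.Agent.Lib.Helper2.BG12
  Cfsg.Agent.Lib.Helper68

universe u

variable {G : Type u} [Group G]

theorem core_of_t28 [Finite G] (T : Texts0 G) (t28 : T1428 G) : Core1428 G := by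
  intro M hM p r q hp hr hrp hrσ hq P R Y H hPM hP hRM hRP hR hY hY1 hYM hYP hRY hYR hH hPH hqH
  have h50 := T.t50 M hM
  obtain ⟨E0, hE0⟩ := exists_sigma_compl h50
  have hn := le_normalizer_piCoreOf (Cfsg.sigma M) M
  have hfac : ∀ l ∈ M, ∃ a ∈ Cfsg.sigmaCore M, ∃ d ∈ E0, l = a * d := by
    intro l hl
    obtain ⟨a, ha, b, hb, hab⟩ := hE0.2.2.2 l⁻¹ (M.inv_mem hl)
    refine ⟨b⁻¹, inv_mem hb, a⁻¹, inv_mem ha, ?_⟩
    rw [← mul_inv_rev, ← hab, inv_inv]
  have hcop : (Nat.card (R ⊔ P : Subgroup G)).Coprime (Nat.card (Cfsg.sigmaCore M)) := by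
    apply Nat.Coprime.coprime_dvd_left (Cfsg.Agent.Lib.Helper56.BG11.card_sup_dvd_of_le_normalizer
      (hRP.trans (centralizer_le_normalizer' P)))
    rw [hR, hP]
    apply Nat.Coprime.mul_left
    · rw [Nat.Prime.coprime_iff_not_dvd hr]
      exact fun hd => hrσ (h50.2.1 r hr hd)
    · rw [Nat.Prime.coprime_iff_not_dvd hp.1]
      exact fun hd => hp.2.1 (h50.2.1 p hp.1 hd)
  obtain ⟨g, hg, hgE⟩ := exists_cj_le (solvable_of_ne_top T.hG hM.1) h50.1 hn
    (coprime_of_hall h50) hE0.1 hfac (sup_le hRM hPM) hcop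
  have hE := isComplIn_cj hE0 (M.inv_mem hg) hn
  have hle : R ⊔ P ≤ cj g⁻¹ E0 := cj_le_iff.mp hgE
  have h1 := t28 M hM (cj g⁻¹ E0) hE p hp P (le_sup_right.trans hle) hP R
    (le_inf (le_sup_left.trans hle) hRP) (hR ▸ hr)
  have hYσ : Y ≤ Cfsg.sigmaCore M := le_sigmaCore_of_isPGroup T hM hq hY hYM
  have h2 : Y ≤ centralizer (R : Set G) := (le_trans (le_inf hYσ hYP) h1).trans inf_le_right
  apply hY1
  rw [← hYR]
  exact commutator_eq_bot_iff_le_centralizer.mpr h2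

end Cfsg.Agent.Lib.Helper2.BG139
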