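import Cfsg.Agent.Lib.Helper2.BG139Core
import Cfsg.Agent.Lib.Helper2.BG10F
import Cfsg.Agent.Lib.Helper66.PiHall

/-!
Ladder BG139 (B-G 13.9), rung R5: existence of `P ≤ N_G(S)` of prime order `p ∉ σ(M) ∪ σ(N)` acting fixed
point freely on `S`.
-/

set_option autoImplicit false
set_option linter.unusedSectionVars false
set_option linter.unusedVariables false

namespace Cfsg.Agent.Lib.Helper2.BG139

open Subgroup Cfsg.Agent.Lib.Helper30 Cfsg.Agent.Lib.Helper2 Cfsg.Agent.Lib.Helper2.BG12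
  Cfsg.Agent.Lib.Helper68

universe u

variable {G : Type u} [Group G]

/-- The conclusions of rung R4. -/
structure R4 (G : Type u) [Group G] : Prop where
  a : ∀ {q : ℕ} {M N S : Subgroup G}, Cfg q M N S →
    normalizer (S : Set G) ⊓ Cfsg.sigmaCore M ≤ centralizer (S : Set G)
  b : ∀ {q : ℕ} {M N S : Subgroup G}, Cfg q M N S →
    ⁅normalizer (S : Set G), normalizer (S : Set G)⁆ ≤ centralizer (S : Set G)
  c : ∀ {q : ℕ} {M N S : Subgroup G}, Cfg q M N S →
    S ⊓ centralizer (normalizer (S : Set G) : Set G) = ⊥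

theorem isComplIn_cj {E K M : Subgroup G} (h : Cfsg.IsComplIn E K M) {g : G} (hg : g ∈ M)
    (hK : M ≤ normalizer (K : Set G)) : Cfsg.IsComplIn (cj g E) K M := by
  obtain ⟨h1, h2, h3, h4⟩ := h
  refine ⟨?_, h2, ?_, ?_⟩
  · have := cj_mono g h1
    rwa [cj_eq_of_mem hg] at this
  · have : cj g E ⊓ K = cj g (E ⊓ K) := by
      rw [cj_inf, cj_eq_of_mem_normalizer (hK hg)]
    rw [this, h3]
    exact Subgroup.map_bot _
  · intro m hm
    obtain ⟨a, ha, b, hb, hab⟩ := h4 (g⁻¹ * m * g) (M.mul_mem (M.mul_mem (M.inv_mem hg) hm) hg)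
    refine ⟨g * a * g⁻¹, ⟨a, ha, rfl⟩, g * b * g⁻¹, ?_, ?_⟩
    · exact (mem_normalizer_iff.mp (hK hg) b).mp hb
    · have : m = g * (g⁻¹ * m * g) * g⁻¹ := by group
      rw [this, hab]
      group

theorem coprime_of_isComplIn [Finite G] (T : Texts0 G) {M E : Subgroup G} (hM : IsCoatom M)
    (hE : Cfsg.IsComplIn E (Cfsg.sigmaCore M) M) :
    Nat.card E = (Cfsg.sigmaCore M).relIndex M := by
  have h1 := isComplement'_of_isComplIn hE
  have h2 := h1.card_mul_card
  rw [card_subgroupOf hE.1, card_subgroupOf hE.2.1] at h2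
  have h3 := card_eq_card_mul_relIndex hE.2.1
  rw [h3, mul_comm] at h2
  exact Nat.eq_of_mul_eq_mul_left Nat.card_pos h2

/-- a complement of `M_σ` inside `N_G(S)` -/
theorem Cfg.exists_compl [Finite G] (T : Texts0 G) {q : ℕ} {M N S : Subgroup G} (h : Cfg q M N S) :
    ∃ E : Subgroup G, E ≤ normalizer (S : Set G) ∧ Cfsg.IsComplIn E (Cfsg.sigmaCore M) M := by
  have : Fact q.Prime := ⟨h.prime⟩
  have h50 := T.t50 M h.hM
  obtain ⟨E0, hE0⟩ := exists_sigma_compl h50
  have hSs : IsSylowIn q S (Cfsg.sigmaCore M) := isSylowIn_of_top h.hS (h.le_sigmaCore0 T)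
  have hn := le_normalizer_piCoreOf (Cfsg.sigma M) M
  obtain ⟨g, hg, hgE⟩ := exists_cj_le (solvable_of_ne_top T.hG h.hM.1) h50.1 hn
    (coprime_of_hall h50) h.hDM (frattini_sylow hSs hn) hE0.1
    (by rw [coprime_of_isComplIn T h.hM hE0]; exact (coprime_of_hall h50).symm)
  exact ⟨cj g E0, hgE, isComplIn_cj hE0 hg hn⟩

/-- the primes of a complement are in `τ₁ ∪ τ₃` -/
theorem Cfg.tau13 [Finite G] (T : Texts0 G) {q : ℕ} {M N S : Subgroup G} (h : Cfg q M N S)
    {E : Subgroup G} (hE : Cfsg.IsComplIn E (Cfsg.sigmaCore M) M) {p : ℕ} (hp : p.Prime)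
    (hpE : p ∣ Nat.card E) : p ∈ Cfsg.tau1 M ∨ p ∈ Cfsg.tau3 M := by
  have h50 := T.t50 M h.hM
  have hpσ : p ∉ Cfsg.sigma M := by
    intro hσ
    rw [coprime_of_isComplIn T h.hM hE] at hpE
    exact h50.2.2 p hp hσ hpE
  have hpM : p ∣ Nat.card M := hpE.trans (card_dvd_of_le hE.1)
  have hr2 : Cfsg.PRankLE p 2 M := by
    by_contra hr
    exact hpσ (mem_sigma_of_mem_alpha T.hG T.hU h.hM ⟨hp, hr⟩)
  have hr1 : Cfsg.PRankLE p 1 M := by
    by_contra hr
    exact h.tau2_empty0 T (p := p) ⟨hp, hpσ, hr2, hr⟩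
  by_cases hd : p ∣ Nat.card ↥⁅M, M⁆
  · exact Or.inr ⟨hp, hpσ, hd, hr1⟩
  · exact Or.inl ⟨hp, hpσ, hpM, hd, hr1⟩

/-- `C_S(E₁) = 1` -/
theorem Cfg.cent_E1 [Finite G] (T : Texts0 G) (r4 : R4 G) {q : ℕ} {M N S : Subgroup G}
    (h : Cfg q M N S) {E E₁ : Subgroup G} (hED : E ≤ normalizer (S : Set G))
    (hE : Cfsg.IsComplIn E (Cfsg.sigmaCore M) M) (hE₁ : Cfsg.IsPiHallOf (Cfsg.tau1 M) E₁ E) :
    S ⊓ centralizer (E₁ : Set G) = ⊥ := by
  have hEs : Group.IsSolvable E := isSolvable_of_le hE.1 (solvable_of_ne_top T.hG h.hM.1)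
  obtain ⟨E₃, hE₃⟩ := Cfsg.Agent.Lib.Helper66.exists_isPiHallOf (Cfsg.tau3 M) E hEs
  obtain ⟨-, -, h15⟩ := T.t15 M h.hM E hE
  obtain ⟨-, hE₃c, -⟩ := h15 E₃ hE₃
  have hE₃S : E₃ ≤ centralizer (S : Set G) :=
    hE₃c.trans ((commutator_mono hED hED).trans (r4.b h))
  rw [eq_bot_iff, ← r4.c h]
  intro x hx
  obtain ⟨hxS, hxE⟩ := mem_inf.mp hx
  refine mem_inf.mpr ⟨hxS, ?_⟩
  -- the centralizer of `x`
  have hCS : centralizer (S : Set G) ≤ centralizer ({x} : Set G) :=
    Subgroup.centralizer_le (by simpa using hxS)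
  have hE1x : E₁ ≤ centralizer ({x} : Set G) := by
    intro e he
    rw [mem_centralizer_singleton_iff]
    exact (mem_centralizer_iff.mp hxE e he)
  have hEx : E ≤ centralizer ({x} : Set G) := by
    apply le_of_forall_isSylowIn
    intro p _ hp
    rcases h.tau13 T hE Fact.out hp with h1 | h3
    · obtain ⟨R, hR⟩ := exists_isSylowIn p E₁
      refine ⟨R, ⟨hR.le.trans hE₁.1, hR.isPGroup, ?_⟩, hR.le.trans hE1x⟩
      rw [← relIndex_mul_relIndex R _ _ hR.le hE₁.1]
      intro hd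
      rcases (Nat.Prime.dvd_mul Fact.out).mp hd with h' | h'
      · exact hR.not_dvd h'
      · exact hE₁.2.2 p Fact.out h1 h'
    · obtain ⟨R, hR⟩ := exists_isSylowIn p E₃
      refine ⟨R, ⟨hR.le.trans hE₃.1, hR.isPGroup, ?_⟩, hR.le.trans (hE₃S.trans hCS)⟩
      rw [← relIndex_mul_relIndex R _ _ hR.le hE₃.1]
      intro hd
      rcases (Nat.Prime.dvd_mul Fact.out).mp hd with h' | h'
      · exact hR.not_dvd h'
      · exact hE₃.2.2 p Fact.out h3 h'
  rw [mem_centralizer_iff]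
  intro d hd
  obtain ⟨a, ha, b, hb, rfl⟩ := hE.2.2.2 d (h.hDM hd)
  have hbD : b ∈ normalizer (S : Set G) := by
    have := mul_mem (inv_mem (hED ha)) hd
    simpa using this
  have hbx : b ∈ centralizer ({x} : Set G) := hCS (r4.a h (mem_inf.mpr ⟨hbD, hb⟩))
  have := mul_mem (hEx ha) hbx
  exact (mem_centralizer_singleton_iff.mp this)


theorem isSylowIn_of_hall {π : Set ℕ} {p : ℕ} (hp : p.Prime) (hpπ : p ∈ π) {R E₁ E : Subgroup G}
    (hE₁ : Cfsg.IsPiHallOf π E₁ E) (hR : IsSylowIn p R E₁) : IsSylowIn p R E := by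
  refine ⟨hR.le.trans hE₁.1, hR.isPGroup, ?_⟩
  rw [← relIndex_mul_relIndex R _ _ hR.le hE₁.1]
  intro hd
  rcases (Nat.Prime.dvd_mul hp).mp hd with h' | h'
  · exact hR.not_dvd h'
  · exact hE₁.2.2 p hp hpπ h'

/-- prime action of the Sylow subgroups of `E₁` (from the text of S1427) -/
theorem sylow_E1 [Finite G] (T : Texts0 G) (t27 : T1427 G) {M E E₁ : Subgroup G} (hM : IsCoatom M)
    (hE : Cfsg.IsComplIn E (Cfsg.sigmaCore M) M) (hE₁ : Cfsg.IsPiHallOf (Cfsg.tau1 M) E₁ E)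
    (p : ℕ) [hp : Fact p.Prime] {Sp : Subgroup G} (hSp : IsSylowIn p Sp E₁) :
    ∀ y ∈ E₁, orderOf y = p → Cfsg.sigmaCore M ⊓ centralizer ({y} : Set G) =
      Cfsg.sigmaCore M ⊓ centralizer (Sp : Set G) := by
  intro y hy hyo
  have hcyc : IsCyclic E₁ := (T.t15 M hM E hE).2.1 E₁ hE₁
  have hcomm : ∀ a ∈ E₁, ∀ b ∈ E₁, a * b = b * a := by
    intro a ha b hb
    have := hcyc.isMulCommutative.is_comm.comm (⟨a, ha⟩ : E₁) ⟨b, hb⟩
    exact congrArg Subtype.val this
  have hyS : y ∈ Sp := by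
    have hz : IsPGroup p (zpowers y) := by
      rw [IsPGroup.iff_card]
      exact ⟨1, by rw [Nat.card_zpowers, hyo, pow_one]⟩
    obtain ⟨Sp', hSp', hle⟩ := exists_isSylowIn_ge (K := E₁) (by rwa [zpowers_le]) hz
    obtain ⟨k, hk, hkS⟩ := hSp.conj hSp'
    have : cj k Sp = Sp := by
      ext z
      rw [mem_cj]
      constructor
      · intro hz'
        have hzE : k⁻¹ * z * k ∈ E₁ := hSp.le hz'
        have hzE' : z ∈ E₁ := by
          have := E₁.mul_mem (E₁.mul_mem hk hzE) (E₁.inv_mem hk)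
          simpa [mul_assoc] using this
        have : k⁻¹ * z * k = z := by
          rw [mul_assoc, hcomm z hzE' k hk, ← mul_assoc, inv_mul_cancel, one_mul]
        rwa [this] at hz'
      · intro hz'
        have : k⁻¹ * z * k = z := by
          rw [mul_assoc, hcomm z (hSp.le hz') k hk, ← mul_assoc, inv_mul_cancel, one_mul]
        rwa [this]
    rw [this] at hkS
    rw [← hkS]
    exact hle (mem_zpowers y)
  have hpτ : p ∈ Cfsg.tau1 M := by
    apply hE₁.2.1 p hp.out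
    rw [← hyo]
    have := orderOf_dvd_natCard (⟨y, hy⟩ : E₁)
    rwa [Subgroup.orderOf_mk] at this
  obtain ⟨P', hP'⟩ := (isSylowIn_of_hall hp.out hpτ hE₁ hSp).exists_sylow
  have hy1 : y ≠ 1 := by
    rintro rfl
    rw [orderOf_one] at hyo
    exact hp.out.one_lt.ne hyo
  have hne : (P' : Subgroup E) ≠ ⊥ := by
    intro hb
    rw [hb, Subgroup.map_bot] at hP'
    rw [← hP', mem_bot] at hyS
    exact hy1 hyS
  have hPc : IsCyclic (P' : Subgroup E) := by
    have h1 : IsCyclic Sp := by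
      have : IsCyclic ↥(Sp.subgroupOf E₁) := inferInstance
      exact isCyclic_of_surjective (subgroupOfEquivOfLe hSp.le) (subgroupOfEquivOfLe hSp.le).surjective
    have e := equivMapOfInjective (P' : Subgroup E) E.subtype E.subtype_injective
    rw [hP'] at e
    exact isCyclic_of_surjective e.symm e.symm.surjective
  have := t27 M hM E hE p P' hne hPc y (by rw [hP']; exact hyS) hy1
  rw [hP'] at this
  exact this

theorem exists_prime_not_centralizing [Finite G] (T : Texts0 G) (t27 : T1427 G)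
    {M E E₁ X : Subgroup G} (hM : IsCoatom M) (hE : Cfsg.IsComplIn E (Cfsg.sigmaCore M) M)
    (hE₁ : Cfsg.IsPiHallOf (Cfsg.tau1 M) E₁ E) (hX : X ≤ Cfsg.sigmaCore M)
    (hXE : ¬ X ≤ centralizer (E₁ : Set G)) :
    ∃ x ∈ E₁, (orderOf x).Prime ∧ ¬ X ≤ centralizer ({x} : Set G) := by
  by_contra hcon
  push Not at hcon
  apply hXE
  rw [le_centralizer_iff]
  apply le_of_forall_isSylowIn
  intro p _ hp
  obtain ⟨Sp, hSp⟩ := exists_isSylowIn p E₁
  refine ⟨Sp, hSp, ?_⟩
  obtain ⟨y, hy⟩ := exists_prime_orderOf_dvd_card' (G := E₁) p hp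
  have hyo : orderOf (y : G) = p := by rw [Subgroup.orderOf_coe]; exact hy
  have h1 := sylow_E1 T t27 hM hE hE₁ p hSp y y.2 hyo
  have h2 : X ≤ Cfsg.sigmaCore M ⊓ centralizer ({(y : G)} : Set G) :=
    le_inf hX (hcon y y.2 (by rw [hyo]; exact Fact.out))
  rw [h1] at h2
  rw [le_centralizer_iff]
  exact h2.trans inf_le_right


theorem le_sigmaCore_of_isPGroup [Finite G] (T : Texts0 G) {M P : Subgroup G} (hM : IsCoatom M)
    {p : ℕ} (hp : p ∈ Cfsg.sigma M) (hP : IsPGroup p P) (hPM : P ≤ M) : P ≤ Cfsg.sigmaCore M := by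
  have : Fact p.Prime := ⟨hp.1⟩
  obtain ⟨hle, hπ, hidx⟩ := T.t50 M hM
  apply le_of_coprime_relIndex hle (le_normalizer_piCoreOf (Cfsg.sigma M) M) hPM
  obtain ⟨k, hk⟩ := IsPGroup.iff_card.mp hP
  rw [hk]
  apply Nat.Coprime.pow_left
  rw [Nat.Prime.coprime_iff_not_dvd hp.1]
  exact hidx p hp.1 hp

/-- if `N_G(P) ≤ H` with `P ≤ N_G(S)` of order `p ∈ τ₁(M)` not centralizing `S` then `q ∉ σ(H)`. -/
theorem Cfg.not_sigma_of_normalizer_le [Finite G] (T : Texts0 G) (r4 : R4 G) {q : ℕ}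
    {M N S : Subgroup G} (h : Cfg q M N S) {p : ℕ} (hp : p ∈ Cfsg.tau1 M) {P H : Subgroup G}
    (hPD : P ≤ normalizer (S : Set G)) (hP : Nat.card P = p) (hPS : ¬ P ≤ centralizer (S : Set G))
    (hH : IsCoatom H) (hPH : normalizer (P : Set G) ≤ H) : q ∉ Cfsg.sigma H := by
  intro hqH
  have : Fact q.Prime := ⟨h.prime⟩
  have : Fact p.Prime := ⟨hp.1⟩
  obtain ⟨S2, hS2⟩ := exists_isSylowIn q H
  have hS2t := sylow_top_of_mem_sigma hqH hS2
  obtain ⟨g, -, hg⟩ := hS2t.conj h.hS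
  have hL : IsCoatom (cj g H) := Cfsg.Agent.Lib.Helper58.BG9.isCoatom_cj hH g
  have hDL : normalizer (S : Set G) ≤ cj g H := by
    rw [hg, normalizer_cj]
    exact cj_mono g (normalizer_le_of_mem_sigma hqH hS2)
  have hSL : S ≤ cj g H := le_normalizer.trans hDL
  have hqL : q ∈ Cfsg.sigma (cj g H) :=
    mem_sigma_of_normalizer_le (isSylowIn_of_top h.hS hSL) h.S_ne_bot hDL
  have hNP : normalizer ((cj g P : Subgroup G) : Set G) ≤ cj g H := by
    rw [normalizer_cj]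
    exact cj_mono g hPH
  have hcard : Nat.card (cj g P) = p := by rw [card_cj, hP]
  have hLM : cj g H ≠ M := by
    intro hLM
    exact (T.t09 M h.hM p hp.2.1 (cj g P) hcard (hLM ▸ hNP)).2 hp.2.2.2.2
  have hc' : Cfg q M (cj g H) S := Cfg.of_ne h.hM hL hLM h.hqM hqL h.hS h.sylM.le hSL
  have hpL : p ∈ Cfsg.sigma (cj g H) := by
    by_contra hpL
    have := T.t09 (cj g H) hL p hpL (cj g P) hcard hNP
    exact hc'.symm.tau2_empty0 T (p := p) ⟨hp.1, hpL, this.1, this.2⟩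
  have hPp : IsPGroup p P := IsPGroup.iff_card.mpr ⟨1, by rw [hP, pow_one]⟩
  have hPσ : P ≤ Cfsg.sigmaCore (cj g H) := le_sigmaCore_of_isPGroup T hL hpL hPp (hPD.trans hDL)
  exact hPS (le_trans (le_inf hPD hPσ) (r4.a hc'.symm))

/-! RUNG R5 -/
theorem Cfg.exists_cfg2 [Finite G] (T : Texts0 G) (t27 : T1427 G) (core : Core1428 G) (r4 : R4 G)
    {q : ℕ} {M N S : Subgroup G} (h : Cfg q M N S) :
    ∃ (p : ℕ) (P : Subgroup G), Cfg2 q p M N S P := by
  have : Fact q.Prime := ⟨h.prime⟩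
  obtain ⟨E, hED, hE⟩ := h.exists_compl T
  have hMs : Group.IsSolvable M := solvable_of_ne_top T.hG h.hM.1
  have hEs : Group.IsSolvable E := isSolvable_of_le hE.1 hMs
  obtain ⟨E₁, hE₁⟩ := Cfsg.Agent.Lib.Helper66.exists_isPiHallOf (Cfsg.tau1 M) E hEs
  have hc := h.cent_E1 T r4 hED hE hE₁
  have hcyc : IsCyclic E₁ := (T.t15 M h.hM E hE).2.1 E₁ hE₁
  have hcomm : ∀ a ∈ E₁, ∀ b ∈ E₁, a * b = b * a := by
    intro a ha b hb
    have := hcyc.isMulCommutative.is_comm.comm (⟨a, ha⟩ : E₁) ⟨b, hb⟩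
    exact congrArg Subtype.val this
  have hE₁D : E₁ ≤ normalizer (S : Set G) := hE₁.1.trans hED
  have hτ : ∀ x ∈ E₁, (orderOf x).Prime → orderOf x ∈ Cfsg.tau1 M := by
    intro x hx hxp
    apply hE₁.2.1 _ hxp
    have := orderOf_dvd_natCard (⟨x, hx⟩ : E₁)
    rwa [Subgroup.orderOf_mk] at this
  have hSσ := h.le_sigmaCore0 T
  have claim : ∃ x ∈ E₁, (orderOf x).Prime ∧ S ⊓ centralizer ({x} : Set G) = ⊥ := by
    by_contra hcon
    push Not at hcon
    have h1 : ¬ S ≤ centralizer (E₁ : Set G) := fun hle =>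
      h.S_ne_bot (by rw [← hc]; exact (inf_eq_left.mpr hle).symm)
    obtain ⟨x, hx, hxp, hxS⟩ := exists_prime_not_centralizing T t27 h.hM hE hE₁ hSσ h1
    have hS1 : S ⊓ centralizer ({x} : Set G) ≠ ⊥ := hcon x hx hxp
    have h2 : ¬ S ⊓ centralizer ({x} : Set G) ≤ centralizer (E₁ : Set G) := fun hle =>
      hS1 (eq_bot_iff.mpr (hc ▸ le_inf inf_le_left hle))
    obtain ⟨y, hy, hyp, hyS⟩ := exists_prime_not_centralizing T t27 h.hM hE hE₁
      (inf_le_left.trans hSσ) h2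
    have hne : orderOf y ≠ orderOf x := by
      intro heq
      have : Fact (orderOf x).Prime := ⟨hxp⟩
      obtain ⟨Sp, hSp⟩ := exists_isSylowIn (orderOf x) E₁
      have e1 := sylow_E1 T t27 h.hM hE hE₁ (orderOf x) hSp x hx rfl
      have e2 := sylow_E1 T t27 h.hM hE hE₁ (orderOf x) hSp y hy heq
      apply hyS
      have : S ⊓ centralizer ({x} : Set G) ≤ Cfsg.sigmaCore M ⊓ centralizer ({x} : Set G) :=
        inf_le_inf_right _ hSσ
      rw [e1, ← e2] at this
      exact this.trans inf_le_right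
    -- the subgroups
    have hxy : x * y = y * x := hcomm x hx y hy
    have hCx : centralizer ((zpowers x : Subgroup G) : Set G) = centralizer {x} :=
      centralizer_zpowers' x
    have hCy : centralizer ((zpowers y : Subgroup G) : Set G) = centralizer {y} :=
      centralizer_zpowers' y
    rw [← hCx] at hS1 hyS hxS
    rw [← hCy] at hyS
    have hRP : zpowers y ≤ centralizer ((zpowers x : Subgroup G) : Set G) := by
      rw [zpowers_le, hCx, mem_centralizer_singleton_iff]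
      exact hxy.symm
    have hRS1 : zpowers y ≤ normalizer
        ((S ⊓ centralizer ((zpowers x : Subgroup G) : Set G) : Subgroup G) : Set G) :=
      le_normalizer_inf (by rw [zpowers_le]; exact hE₁D hy)
        (hRP.trans ((centralizer_le_normalizer' _).trans
          (Cfsg.Agent.Lib.Helper30.normalizer_le_normalizer_centralizer _)))
    have hS1p : IsPGroup q ↥(S ⊓ centralizer ((zpowers x : Subgroup G) : Set G)) :=
      h.hS.isPGroup.to_le inf_le_left
    have hrq : orderOf y ≠ q := by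
      intro hh
      exact (hτ y hy hyp).2.1 (hh ▸ h.hqM)
    have hcop : (Nat.card (zpowers y)).Coprime
        (Nat.card ↥(S ⊓ centralizer ((zpowers x : Subgroup G) : Set G))) := by
      obtain ⟨k, hk⟩ := IsPGroup.iff_card.mp hS1p
      rw [hk, Nat.card_zpowers]
      exact Nat.Coprime.pow_right _ ((Nat.coprime_primes hyp h.prime).mpr hrq)
    have hMx : zpowers x ≤ M := by
      rw [zpowers_le]
      exact h.hDM (hE₁D hx)
    have hMy : zpowers y ≤ M := by
      rw [zpowers_le]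
      exact h.hDM (hE₁D hy)
    have hY := commutator_commutator_eq hRS1 hcop (Or.inl (isSolvable_of_le hMy hMs))
    have hYne : ⁅S ⊓ centralizer ((zpowers x : Subgroup G) : Set G), zpowers y⁆ ≠ ⊥ := by
      intro hb
      rw [commutator_eq_bot_iff_le_centralizer] at hb
      exact hyS hb
    have hYle := commutator_le_of_le_normalizer hRS1
    have hRY : zpowers y ≤ normalizer
        ((⁅S ⊓ centralizer ((zpowers x : Subgroup G) : Set G), zpowers y⁆ : Subgroup G) : Set G) :=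
      le_normalizer_commutator hRS1 le_normalizer
    have hP1 : zpowers x ≠ ⊥ := by
      rw [Ne, zpowers_eq_bot]
      rintro rfl
      rw [orderOf_one] at hxp
      exact Nat.not_prime_one hxp
    have hPtop : zpowers x ≠ ⊤ := fun hh => h.hM.1 (top_le_iff.mp (hh ▸ hMx))
    obtain ⟨H, hH, hPH⟩ := exists_coatom_ge (normalizer_ne_top T.hG hP1 hPtop)
    have hqH := h.not_sigma_of_normalizer_le T r4 (hτ x hx hxp)
      (by rw [zpowers_le]; exact hE₁D hx) (Nat.card_zpowers x)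
      (fun hle => hxS (le_centralizer_iff.mp hle)) hH hPH
    exact core M h.hM (orderOf x) (orderOf y) q (hτ x hx hxp) hyp hne (hτ y hy hyp).2.1 h.hqM
      (zpowers x) (zpowers y) _ H hMx (Nat.card_zpowers x) hMy hRP (Nat.card_zpowers y)
      (hS1p.to_le hYle) hYne (hYle.trans (inf_le_left.trans h.sylM.le))
      (hYle.trans inf_le_right) hRY hY hH hPH hqH
  obtain ⟨x, hx, hxp, hxS⟩ := claim
  have hτx := hτ x hx hxp
  have hPD : zpowers x ≤ normalizer (S : Set G) := by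
    rw [zpowers_le]
    exact hE₁D hx
  refine ⟨orderOf x, zpowers x, ⟨h, hPD, Nat.card_zpowers x, hxp, hτx.2.1, ?_, ?_⟩⟩
  · intro hpN
    have : Fact (orderOf x).Prime := ⟨hxp⟩
    have hPp : IsPGroup (orderOf x) (zpowers x) :=
      IsPGroup.iff_card.mpr ⟨1, by rw [Nat.card_zpowers, pow_one]⟩
    have hPσ := le_sigmaCore_of_isPGroup T h.hN hpN hPp (hPD.trans h.hDN)
    have h1 : zpowers x ≤ centralizer (S : Set G) := le_trans (le_inf hPD hPσ) (r4.a h.symm)
    have h2 : S ≤ centralizer ({x} : Set G) := by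
      rw [← centralizer_zpowers']
      exact le_centralizer_iff.mp h1
    exact h.S_ne_bot (by rw [← hxS]; exact (inf_eq_left.mpr h2).symm)
  · rw [centralizer_zpowers']
    exact hxS

end Cfsg.Agent.Lib.Helper2.BG139
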