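import Cfsg.Agent.Lib.Helper2.BG16Texts
import Cfsg.Agent.Lib.Helper2.BG139R5
import Cfsg.Agent.Lib.Helper56.BG152NIL
import Cfsg.Agent.S1474

/-!
Bender-Glauberman section 16: basic facts on the standard factorisation `M = K U M_σ` and on `M_F`.
-/

set_option autoImplicit false
set_option linter.unusedSectionVars false
set_option linter.unusedVariables false

namespace Cfsg.Agent.Lib.Helper2.BG16

open Subgroup Cfsg.Agent.Lib.Helper30 Cfsg.Agent.Lib.Helper2 Cfsg.Agent.Lib.Helper2.BG12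
  Cfsg.Agent.Lib.Helper68 Cfsg.Agent.Lib.Helper2.BG139

universe u

variable {G : Type u} [Group G]

/-! ### `M_F` is characteristic -/

theorem fittingHall_characteristic (X : Type u) [Group X] [Finite X] :
    (Cfsg.fittingHall X).Characteristic := by
  rw [characteristic_iff_map_le]
  intro φ
  rw [Cfsg.fittingHall, Subgroup.map_le_iff_le_comap]
  apply sSup_le
  rintro N ⟨hN, hnil, hcop⟩
  rw [← Subgroup.map_le_iff_le_comap]
  apply le_sSup
  refine ⟨?_, ?_, ?_⟩
  · exact hN.map φ.toMonoidHom φ.surjective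
  · exact (Group.isNilpotent_congr (equivMapOfInjective N φ.toMonoidHom φ.injective)).mp hnil
  · rw [card_map_of_injective φ.injective]
    have : (N.map φ.toMonoidHom).index = N.index := by
      rw [index_map_of_bijective φ.bijective]
    rw [this]
    exact hcop

theorem fittingHallOf_nilpotent [Finite G] (M : Subgroup G) :
    Group.IsNilpotent (Cfsg.fittingHallOf M) :=
  (Group.isNilpotent_congr (equivMapOfInjective (Cfsg.fittingHall M) M.subtype
    M.subtype_injective)).mp (Cfsg.Agent.S1474.fittingHall_nilpotent M)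

theorem le_normalizer_fittingHallOf_of_le [Finite G] {D M : Subgroup G}
    (h : M ≤ normalizer (D : Set G)) : M ≤ normalizer ((Cfsg.fittingHallOf D : Subgroup G) : Set G) :=
  Cfsg.Agent.Lib.Helper28.le_normalizer_map_subtype_of_characteristic h
    (fittingHall_characteristic D)

theorem fittingHallOf_coprime [Finite G] (M : Subgroup G) :
    (Nat.card (Cfsg.fittingHallOf M)).Coprime ((Cfsg.fittingHallOf M).relIndex M) := by
  have h := Cfsg.Agent.Lib.Helper29.card_fittingHall_coprime_index (G := M)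
  rw [Cfsg.Agent.Lib.Helper29.card_fittingHallOf]
  have : (Cfsg.fittingHallOf M).relIndex M = (Cfsg.fittingHall M).index := by
    rw [Cfsg.fittingHallOf, relIndex, subgroupOf, comap_map_eq_self_of_injective M.subtype_injective]
  rw [this]
  exact h

/-! ### the standard factorisation -/

section dec

variable [Finite G] {M K U : Subgroup G}

theorem sigmaCore_le (M : Subgroup G) : Cfsg.sigmaCore M ≤ M := piCoreOf_le _ _

theorem le_normalizer_sigmaCore (M : Subgroup G) :
    M ≤ normalizer ((Cfsg.sigmaCore M : Subgroup G) : Set G) := le_normalizer_piCoreOf _ _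

theorem dec_coprime (h : Cfsg.IsSigmaDecomposition M K U) :
    (Nat.card K).Coprime (Nat.card (Cfsg.sigmaCore M)) := by
  apply Nat.coprime_of_dvd
  intro p hp h1 h2
  exact (h.hall.2.1 p hp h1).2.2.1 (piCoreOf_isPi (Cfsg.sigma M) M p hp h2)

theorem dec_K_inf (h : Cfsg.IsSigmaDecomposition M K U) : K ⊓ Cfsg.sigmaCore M = ⊥ :=
  (Subgroup.disjoint_of_coprime_natCard (dec_coprime h)).eq_bot

theorem dec_U_inf (h : Cfsg.IsSigmaDecomposition M K U) : U ⊓ Cfsg.sigmaCore M = ⊥ :=
  eq_bot_iff.mpr (h.compl.2.2.1 ▸ inf_le_inf_left U le_sup_right)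

theorem dec_U_inf_K (h : Cfsg.IsSigmaDecomposition M K U) : U ⊓ K = ⊥ :=
  eq_bot_iff.mpr (h.compl.2.2.1 ▸ inf_le_inf_left U le_sup_left)

theorem dec_factor (h : Cfsg.IsSigmaDecomposition M K U) :
    ∀ m ∈ M, ∃ u ∈ U, ∃ s ∈ Cfsg.sigmaCore M, ∃ k ∈ K, m = u * s * k := by
  intro m hm
  obtain ⟨u, hu, b, hb, rfl⟩ := h.compl.2.2.2 m hm
  rw [sup_comm] at hb
  obtain ⟨s, hs, k, hk, rfl⟩ := (mem_sup_of_le_normalizer
    (h.hall.1.trans (le_normalizer_sigmaCore M))).mp hb
  exact ⟨u, hu, s, hs, k, hk, by group⟩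

theorem kappa_nonempty (h : Cfsg.IsSigmaDecomposition M K U) (hK : K ≠ ⊥) :
    (Cfsg.kappa M).Nonempty := by
  have h1 : Nat.card K ≠ 1 := fun hc => hK (card_eq_one.mp hc)
  obtain ⟨p, hp, hd⟩ := Nat.exists_prime_and_dvd h1
  exact ⟨p, h.hall.2.1 p hp hd⟩

theorem K_ne_bot_of_kappa (h : Cfsg.IsSigmaDecomposition M K U) {p : ℕ} (hp : p ∈ Cfsg.kappa M) :
    K ≠ ⊥ := by
  rintro rfl
  apply h.hall.2.2 p hp.1 hp
  rw [relIndex_bot_left]
  exact hp.2.1

end dec

end Cfsg.Agent.Lib.Helper2.BG16
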