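import Cfsg.Agent.Lib.Helper2.BG16B

/-!
Bender-Glauberman section 16: type P implies `K ≠ 1`; Type II implies `U ≠ 1`; statement S1381.
-/

set_option autoImplicit false
set_option linter.unusedSectionVars false
set_option linter.unusedVariables false

namespace Cfsg.Agent.Lib.Helper2.BG16

open Subgroup Cfsg.Agent.Lib.Helper30 Cfsg.Agent.Lib.Helper2 Cfsg.Agent.Lib.Helper2.BG12
  Cfsg.Agent.Lib.Helper68 Cfsg.Agent.Lib.Helper2.BG139

universe u

variable {G : Type u} [Group G] [Finite G] {M K U : Subgroup G}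

theorem le_sigmaCore_of_isPGroup' (T : Sec16 G) {P : Subgroup G} (hM : IsCoatom M)
    {p : ℕ} (hp : p ∈ Cfsg.sigma M) (hP : IsPGroup p P) (hPM : P ≤ M) : P ≤ Cfsg.sigmaCore M := by
  have : Fact p.Prime := ⟨hp.1⟩
  obtain ⟨hle, hπ, hidx⟩ := (T.t50 M hM).1
  apply le_of_coprime_relIndex hle (le_normalizer_piCoreOf (Cfsg.sigma M) M) hPM
  obtain ⟨k, hk⟩ := IsPGroup.iff_card.mp hP
  rw [hk]
  apply Nat.Coprime.pow_left
  rw [Nat.Prime.coprime_iff_not_dvd hp.1]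
  exact hidx p hp.1 hp

theorem isCyclic_of_le {A B : Subgroup G} (hB : IsCyclic B) (h : A ≤ B) : IsCyclic A := by
  have : IsCyclic ↥(A.subgroupOf B) := inferInstance
  exact isCyclic_of_surjective (subgroupOfEquivOfLe h) (subgroupOfEquivOfLe h).surjective

theorem isCyclic_cj {A : Subgroup G} (hA : IsCyclic A) (g : G) : IsCyclic ↥(cj g A) :=
  isCyclic_of_surjective (equivMapOfInjective A _ (MulAut.conj g).injective)
    (equivMapOfInjective A _ (MulAut.conj g).injective).surjective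

theorem exists_ne_one_of_ne_bot {A : Subgroup G} (h : A ≠ ⊥) : ∃ a ∈ A, a ≠ 1 := by
  by_contra hcon
  push Not at hcon
  exact h ((eq_bot_iff_forall A).mpr hcon)

/-- a cyclic Hall subgroup `W₁` meeting `M'` trivially and centralizing `1 ≠ W₂ ≤ M_σ` gives primes in
`κ(M)`. -/
theorem mem_kappa_of_hall (T : Sec16 G) (hM : IsCoatom M) {W₁ W₂ : Subgroup G} (hW₁M : W₁ ≤ M)
    (hcyc : IsCyclic W₁) (hhall : (Nat.card W₁).Coprime (W₁.relIndex M))
    (hinf : ⁅M, M⁆ ⊓ W₁ = ⊥) (hW₂ : W₂ ≠ ⊥) (hW₂σ : W₂ ≤ Cfsg.sigmaCore M)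
    (hcomm : ∀ a ∈ W₁, ∀ b ∈ W₂, a * b = b * a) {p : ℕ} (hp : p.Prime) (hpW : p ∣ Nat.card W₁) :
    p ∈ Cfsg.kappa M := by
  have : Fact p.Prime := ⟨hp⟩
  obtain ⟨Wp, hWp⟩ := exists_isSylowIn p W₁
  have hWp1 : Wp ≠ ⊥ := by
    rintro rfl
    apply hWp.not_dvd
    rwa [relIndex_bot_left]
  have hWpM : IsSylowIn p Wp M := by
    refine ⟨hWp.le.trans hW₁M, hWp.isPGroup, ?_⟩
    rw [← relIndex_mul_relIndex Wp W₁ M hWp.le hW₁M]
    intro hd
    rcases (Nat.Prime.dvd_mul hp).mp hd with h' | h'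
    · exact hWp.not_dvd h'
    · exact hp.one_lt.ne' (Nat.dvd_one.mp (hhall ▸ Nat.dvd_gcd hpW h'))
  have hpσ : p ∉ Cfsg.sigma M := by
    intro hσ
    have h1 := le_sigmaCore_of_isPGroup' T hM hσ hWp.isPGroup hWpM.le
    have h2 : Wp ≤ ⁅M, M⁆ ⊓ W₁ := le_inf (h1.trans (T.t55 M hM).2.2.1) hWp.le
    rw [hinf] at h2
    exact hWp1 (eq_bot_iff.mpr h2)
  refine ⟨hp, hpW.trans (card_dvd_of_le hW₁M), hpσ, ?_⟩
  intro P
  obtain ⟨m, hm, hmP⟩ := hWpM.conj (isSylowIn_of_sylow P)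
  constructor
  · have h1 : IsCyclic ↥(cj m Wp) := isCyclic_cj (isCyclic_of_le hcyc hWp.le) m
    rw [← hmP] at h1
    have e := equivMapOfInjective (P : Subgroup M) M.subtype M.subtype_injective
    exact isCyclic_of_surjective e.symm e.symm.surjective
  · obtain ⟨w, hw, hw1⟩ := exists_ne_one_of_ne_bot hWp1
    obtain ⟨w₂, hw₂, hw₂1⟩ := exists_ne_one_of_ne_bot hW₂
    have h1 : m * w * m⁻¹ ∈ (P : Subgroup M).map M.subtype := by
      rw [hmP]
      exact ⟨w, hw, rfl⟩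
    obtain ⟨x, hx, hxe⟩ := h1
    refine ⟨x, hx, ?_, m * w₂ * m⁻¹, ?_, ?_, ?_⟩
    · rintro rfl
      apply hw1
      have : m * w * m⁻¹ = 1 := hxe.symm
      have e : w = m⁻¹ * (m * w * m⁻¹) * m := by group
      rw [e, this]; group
    · exact (mem_normalizer_iff.mp (le_normalizer_sigmaCore M hm) w₂).mp (hW₂σ hw₂)
    · intro h1
      apply hw₂1
      have e : w₂ = m⁻¹ * (m * w₂ * m⁻¹) * m := by group
      rw [e, h1]; group
    · have hx' : (x : G) = m * w * m⁻¹ := hxe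
      rw [hx']
      have := hcomm w (hWp.le hw) w₂ hw₂
      calc m * w * m⁻¹ * (m * w₂ * m⁻¹) = m * (w * w₂) * m⁻¹ := by group
        _ = m * (w₂ * w) * m⁻¹ := by rw [this]
        _ = m * w₂ * m⁻¹ * (m * w * m⁻¹) := by group

theorem K_ne_bot_of_typeP (T : Sec16 G) (hM : IsCoatom M) (h : Cfsg.IsSigmaDecomposition M K U)
    {W₁ Ut W₂ : Subgroup G} (hP : Cfsg.IsTypePWith M W₁ Ut W₂) : K ≠ ⊥ := by
  have h1 : Nat.card W₁ ≠ 1 := fun hc => hP.W₁_ne (card_eq_one.mp hc)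
  obtain ⟨p, hp, hd⟩ := Nat.exists_prime_and_dvd h1
  exact K_ne_bot_of_kappa h (mem_kappa_of_hall T hM hP.W₁_compl.2.1 hP.W₁_cyclic hP.W₁_hall
    hP.W₁_compl.2.2.1 hP.selfNormalizing.2.1
    ((hP.W₂_le.trans inf_le_left).trans (T.t55 M hM).2.1) hP.selfNormalizing.2.2.2.1 hp hd)

end Cfsg.Agent.Lib.Helper2.BG16
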