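import Cfsg.Agent.Lib.Helper2.BG16C

/-!
Bender-Glauberman section 16: Type II implies `U ≠ 1`; statement S1381 from the texts.
-/

set_option autoImplicit false
set_option linter.unusedSectionVars false
set_option linter.unusedVariables false

namespace Cfsg.Agent.Lib.Helper2.BG16

open Subgroup Cfsg.Agent.Lib.Helper30 Cfsg.Agent.Lib.Helper2 Cfsg.Agent.Lib.Helper2.BG12
  Cfsg.Agent.Lib.Helper68 Cfsg.Agent.Lib.Helper2.BG139

open scoped commutatorElement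

universe u

variable {G : Type u} [Group G] [Finite G] {M K U : Subgroup G}

/-- if `U = 1` then `M' ≤ M_σ`. -/
theorem commutator_le_sigmaCore (h : Cfsg.IsSigmaDecomposition M K ⊥) :
    ⁅M, M⁆ ≤ Cfsg.sigmaCore M := by
  rw [commutator_le]
  intro a ha b hb
  obtain ⟨u₁, hu₁, s₁, hs₁, k₁, hk₁, rfl⟩ := dec_factor h a ha
  obtain ⟨u₂, hu₂, s₂, hs₂, k₂, hk₂, rfl⟩ := dec_factor h b hb
  rw [mem_bot] at hu₁ hu₂
  subst hu₁ hu₂
  have hcomm : k₁ * k₂ = k₂ * k₁ :=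
    congrArg Subtype.val (h.cyclic.isMulCommutative.is_comm.comm (⟨k₁, hk₁⟩ : K) ⟨k₂, hk₂⟩)
  have hn : ∀ k ∈ K, ∀ s ∈ Cfsg.sigmaCore M, k * s * k⁻¹ ∈ Cfsg.sigmaCore M := fun k hk s hs =>
    (mem_normalizer_iff.mp (le_normalizer_sigmaCore M (h.hall.1 hk)) s).mp hs
  have e : ⁅1 * s₁ * k₁, 1 * s₂ * k₂⁆ = s₁ * (k₁ * s₂ * k₁⁻¹) * (k₂ * s₁⁻¹ * k₂⁻¹) * s₂⁻¹ := by
    rw [commutatorElement_def]
    have e1 : 1 * s₁ * k₁ * (1 * s₂ * k₂) * (1 * s₁ * k₁)⁻¹ * (1 * s₂ * k₂)⁻¹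
        = s₁ * (k₁ * s₂ * k₁⁻¹) * ((k₁ * k₂) * k₁⁻¹ * s₁⁻¹ * k₂⁻¹) * s₂⁻¹ := by group
    rw [e1, hcomm]
    group
  rw [e]
  exact mul_mem (mul_mem (mul_mem hs₁ (hn k₁ hk₁ s₂ hs₂)) (hn k₂ hk₂ _ (inv_mem hs₁))) (inv_mem hs₂)

/-- the normalizer of an abelian group normalizes its Sylow subgroups -/
theorem normalizer_le_normalizer_sylow_of_comm {A R : Subgroup G} (hA : IsMulCommutative A) {r : ℕ}
    [Fact r.Prime] (hR : IsSylowIn r R A) : normalizer (A : Set G) ≤ normalizer (R : Set G) := by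
  intro g hg
  apply mem_normalizer_of_cj_eq
  have h1 : IsSylowIn r (cj g R) A := by
    have := hR.cj g
    rwa [cj_eq_of_mem_normalizer hg] at this
  obtain ⟨a, ha, hae⟩ := hR.conj h1
  rw [hae]
  apply cj_eq_of_mem_normalizer
  apply centralizer_le_normalizer' R
  rw [mem_centralizer_iff]
  intro x hx
  exact congrArg Subtype.val (hA.is_comm.comm (⟨x, hR.le hx⟩ : A) ⟨a, ha⟩)

/-- Type II forces `U ≠ 1` -/
theorem U_ne_bot_of_typeII (T : Sec16 G) (hM : IsCoatom M) (h : Cfsg.IsSigmaDecomposition M K U)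
    {W₁ Ut W₂ : Subgroup G} (hP : Cfsg.IsTypePWith M W₁ Ut W₂) (hUt : Ut ≠ ⊥)
    (hc : IsMulCommutative Ut) (hN : ¬ normalizer (Ut : Set G) ≤ M) : U ≠ ⊥ := by
  rintro rfl
  apply hN
  have hDσ := commutator_le_sigmaCore h
  obtain ⟨hle, hπ, hidx⟩ := (T.t50 M hM).1
  have hDM : ⁅M, M⁆ ≤ M := commutator_le_self M
  have h1 : Nat.card Ut ≠ 1 := fun hc => hUt (card_eq_one.mp hc)
  obtain ⟨r, hr, hd⟩ := Nat.exists_prime_and_dvd h1
  have : Fact r.Prime := ⟨hr⟩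
  have hUtD : Ut ≤ ⁅M, M⁆ := hP.U_compl.2.1
  have hrσ : r ∈ Cfsg.sigma M := hπ r hr (hd.trans (card_dvd_of_le (hUtD.trans hDσ)))
  obtain ⟨R, hR⟩ := exists_isSylowIn r Ut
  have hcop := Cfsg.Agent.Lib.Helper29.coprime_card_fittingHallOf_of_disjoint M Ut (hUtD.trans hDM)
    hP.U_compl.2.2.1
  have hidxU : Ut.relIndex ⁅M, M⁆ = Nat.card (Cfsg.fittingHallOf M) := by
    have h2 := (isComplement'_of_isComplIn hP.U_compl).card_mul_card
    rw [card_subgroupOf hP.U_compl.1, card_subgroupOf hP.U_compl.2.1] at h2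
    have h3 := card_eq_card_mul_relIndex hUtD
    rw [← h2, mul_comm] at h3
    exact (Nat.eq_of_mul_eq_mul_left Nat.card_pos h3).symm
  have hRM : IsSylowIn r R M := by
    refine ⟨hR.le.trans (hUtD.trans hDM), hR.isPGroup, ?_⟩
    rw [← relIndex_mul_relIndex R Ut M hR.le (hUtD.trans hDM),
      ← relIndex_mul_relIndex Ut ⁅M, M⁆ M hUtD hDM, hidxU]
    intro hdv
    rcases (Nat.Prime.dvd_mul hr).mp hdv with h' | h'
    · exact hR.not_dvd h'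
    · rcases (Nat.Prime.dvd_mul hr).mp h' with h' | h'
      · exact hr.one_lt.ne' (Nat.dvd_one.mp (hcop ▸ Nat.dvd_gcd h' hd))
      · apply hidx r hr hrσ
        have e : ⁅M, M⁆ = Cfsg.sigmaCore M := le_antisymm hDσ (T.t55 M hM).2.2.1
        rwa [e] at h'
  exact (normalizer_le_normalizer_sylow_of_comm hc hR).trans (normalizer_le_of_mem_sigma hrσ hRM)

/-- statement S1381 from the texts -/
theorem S1381_of (T : Sec16 G) (hM : IsCoatom M) (h : Cfsg.IsSigmaDecomposition M K U) :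
    Cfsg.IsOfTypeII M ↔ (K ≠ ⊥ ∧ U ≠ ⊥) := by
  constructor
  · rintro ⟨W₁, Ut, W₂, hP, hUt, -, -, hc, hN, -, -⟩
    exact ⟨K_ne_bot_of_typeP T hM h hP, U_ne_bot_of_typeII T hM h hP hUt hc hN⟩
  · rintro ⟨hK, hU⟩
    exact ⟨K, U, _, typeII_of T hM h hK hU⟩

end Cfsg.Agent.Lib.Helper2.BG16
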