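import Cfsg.Agent.Lib.Helper2.BG16D
import Cfsg.Agent.S1350
import Cfsg.Agent.S1354
import Cfsg.Agent.S1355
import Cfsg.Agent.S1356
import Cfsg.Agent.S1357
import Cfsg.Agent.S1358
import Cfsg.Agent.S1359
import Cfsg.Agent.S1360
import Cfsg.Agent.S1361
import Cfsg.Agent.S1362
import Cfsg.Agent.S1363
import Cfsg.Agent.S1364
import Cfsg.Agent.S1365
import Cfsg.Agent.S1366
import Cfsg.Agent.S1368
import Cfsg.Agent.S1370
import Cfsg.Agent.S1372

/-!
The texts of section 16 of Bender-Glauberman used in `BG16*`, from the proved statements.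
-/

set_option autoImplicit false

namespace Cfsg.Agent.Lib.Helper2.BG16

universe u

theorem sec16 {G : Type u} [Group G] [Finite G] (hG : Cfsg.IsMinSimpleOddOrder G) : Sec16 G where
  hG := hG
  t50 := Cfsg.Agent.S1350.result hG
  t54 := Cfsg.Agent.S1354.result hG
  t55 := Cfsg.Agent.S1355.result hG
  t56 := Cfsg.Agent.S1356.result hG
  t57 := Cfsg.Agent.S1357.result hG
  t58 := Cfsg.Agent.S1358.result hG
  t59 := Cfsg.Agent.S1359.result hG
  t60 := Cfsg.Agent.S1360.result hG
  t61 := Cfsg.Agent.S1361.result hG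
  t62 := Cfsg.Agent.S1362.result hG
  t63 := Cfsg.Agent.S1363.result hG
  t64 := Cfsg.Agent.S1364.result hG
  t65 := Cfsg.Agent.S1365.result hG
  t66 := Cfsg.Agent.S1366.result hG
  t68 := Cfsg.Agent.S1368.result hG
  t70 := Cfsg.Agent.S1370.result hG
  t72 := Cfsg.Agent.S1372.result hG

end Cfsg.Agent.Lib.Helper2.BG16
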