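import Cfsg.Agent.Lib.Helper2.BG76Texts
import Cfsg.Agent.Lib.Helper2.BG16D
import Cfsg.Agent.Lib.Helper75.BGTopMore
import Cfsg.Agent.S1378

/-!
Bender-Glauberman 14.4(c2) (statement S1376): set-up.  `N = K U N_σ` with `U K = M ∩ N`, `x ∈ U`, and `M` is the
maximal subgroup `H` of S1435.
-/

set_option autoImplicit false
set_option linter.unusedSectionVars false
set_option linter.unusedVariables false

namespace Cfsg.Agent.Lib.Helper2.BG76

open Subgroup Cfsg.Agent.Lib.Helper30 Cfsg.Agent.Lib.Helper2 Cfsg.Agent.Lib.Helper68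

universe u

variable {G : Type u} [Group G] [Finite G]

/-- the texts used -/
structure Tx (G : Type u) [Group G] : Prop where
  hG : Cfsg.IsMinSimpleOddOrder G
  t51 : T1351 G
  t52 : T1352 G
  t53 : T1353 G
  t54 : T1354 G
  t60 : T1360 G
  t63 : T1363 G
  t64 : T1364 G
  t65 : T1365 G
  t66 : T1366 G
  t67 : T1367 G
  t72 : T1372 G
  t74 : T1374 G
  t75 : T1375 G
  t31 : T1431 G
  t32 : T1432 G
  t35 : T1435 G
  t37 : T1437 G

/-- `U K` is a complement of `N_σ`. -/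
theorem isComplIn_UK {N K U : Subgroup G} (D : Cfsg.IsSigmaDecomposition N K U) :
    Cfsg.IsComplIn (U ⊔ K) (Cfsg.sigmaCore N) N := by
  refine ⟨sup_le D.compl.1 D.hall.1, BG16.sigmaCore_le N, ?_, ?_⟩
  · rw [eq_bot_iff]
    rintro g ⟨hg1, hg2⟩
    obtain ⟨u, hu, k, hk, rfl⟩ := (mem_sup_of_le_normalizer D.normal).mp hg1
    have hu1 : u ∈ U ⊓ (K ⊔ Cfsg.sigmaCore N) := by
      refine mem_inf.mpr ⟨hu, ?_⟩
      have : u = u * k * k⁻¹ := by group
      rw [this]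
      exact mul_mem (le_sup_right (a := K) hg2) (le_sup_left (b := Cfsg.sigmaCore N) (inv_mem hk))
    rw [D.compl.2.2.1, mem_bot] at hu1
    subst hu1
    rw [SetLike.mem_coe, one_mul] at hg2
    rw [one_mul]
    have : k ∈ K ⊓ Cfsg.sigmaCore N := mem_inf.mpr ⟨hk, hg2⟩
    rwa [BG16.dec_K_inf D] at this
  · intro m hm
    obtain ⟨u, hu, s, hs, k, hk, rfl⟩ := BG16.dec_factor D m hm
    refine ⟨u * k, mul_mem (le_sup_left (b := K) hu) (le_sup_right (a := U) hk), k⁻¹ * s * k, ?_,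
      by group⟩
    have := (mem_normalizer_iff.mp (BG16.le_normalizer_sigmaCore N (D.hall.1 (inv_mem hk))) s).mp hs
    rwa [inv_inv] at this

/-- a standard factorisation inside a given complement -/
theorem exists_decomp_in (T : Tx G) {N E : Subgroup G} (hN : IsCoatom N)
    (hE : Cfsg.IsComplIn E (Cfsg.sigmaCore N) N) :
    ∃ K U : Subgroup G, Cfsg.IsSigmaDecomposition N K U ∧ U ⊔ K = E := by
  obtain ⟨⟨K₁, hK₁⟩, hc⟩ := T.t51 N hN
  obtain ⟨⟨U₁, D₁⟩, -⟩ := T.t52 N hN K₁ (hc K₁ hK₁) hK₁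
  have h1 := Cfsg.Agent.Lib.Helper28.BG12.isPiHallOf_compl T.hG hN (isComplIn_UK D₁)
  have h2 := Cfsg.Agent.Lib.Helper28.BG12.isPiHallOf_compl T.hG hN hE
  obtain ⟨n, hn, e⟩ := Cfsg.Agent.Lib.Helper66.isPiHallOf_exists_conj
    (solvable_of_ne_top T.hG hN.1) h1 h2
  refine ⟨cj n K₁, cj n U₁, Cfsg.Agent.Lib.Helper75.BGTop.decomp_cj D₁ hn, ?_⟩
  rw [e]
  exact (Subgroup.map_sup _ _ _).symm

/-- the configuration of S1376 after the set-up -/
structure Ctx (M N L K U : Subgroup G) (x : G) (r : ℕ) : Prop where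
  hM : IsCoatom M
  hN : IsCoatom N
  hL : IsCoatom L
  D : Cfsg.IsSigmaDecomposition N K U
  hK1 : K ≠ ⊥
  hU1 : U ≠ ⊥
  hKst : K = Cfsg.sigmaCore L ⊓ centralizer ((Cfsg.sigmaCore N ⊓ centralizer (K : Set G)) : Set G)
  hKstH : Cfsg.IsPiHallOf (Cfsg.kappa L) (Cfsg.sigmaCore N ⊓ centralizer (K : Set G)) L
  hr : r.Prime
  hxU : x ∈ U
  hxr : orderOf x = r
  hxσ : x ∈ Cfsg.sigmaCore M
  hxNσ : x ∉ Cfsg.sigmaCore N
  hxM : ¬ centralizer ({x} : Set G) ≤ M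
  hxN : centralizer ({x} : Set G) ≤ N
  hMN : M ⊓ N = U ⊔ K
  hκ : Cfsg.kappa M = ∅
  hUσ : U ≤ Cfsg.sigmaCore M
  hE : Cfsg.IsComplIn (M ⊓ L) (Cfsg.sigmaCore M) M

/-- an element of `N` normalizing the complement `U K` lies in it. -/
theorem mem_of_normalizes (T : Tx G) {N K U : Subgroup G} (hN : IsCoatom N)
    (D : Cfsg.IsSigmaDecomposition N K U) (hU1 : U ≠ ⊥) {c : G} (hc : c ∈ N)
    (hcn : c ∈ normalizer ((U ⊔ K : Subgroup G) : Set G)) : c ∈ U ⊔ K := by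
  have hC := isComplIn_UK D
  obtain ⟨d, hd, y, hy, rfl⟩ := hC.2.2.2 c hc
  have hyn : y ∈ normalizer ((U ⊔ K : Subgroup G) : Set G) := by
    have : y = d⁻¹ * (d * y) := by group
    rw [this]
    exact mul_mem (inv_mem (le_normalizer hd)) hcn
  have hcent : ∀ e ∈ U ⊔ K, y * e = e * y := by
    intro e he
    have h1 : y * e * y⁻¹ * e⁻¹ ∈ (U ⊔ K) ⊓ Cfsg.sigmaCore N := by
      refine mem_inf.mpr ⟨mul_mem ((mem_normalizer_iff.mp hyn e).mp he) (inv_mem he), ?_⟩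
      have h2 := (mem_normalizer_iff.mp (BG16.le_normalizer_sigmaCore N (hC.1 he)) y⁻¹).mp
        (inv_mem hy)
      have e1 : y * e * y⁻¹ * e⁻¹ = y * (e * y⁻¹ * e⁻¹) := by group
      rw [e1]
      exact mul_mem hy h2
    rw [hC.2.2.1, mem_bot] at h1
    have e2 : y * e = (y * e * y⁻¹ * e⁻¹) * (e * y) := by group
    rw [e2, h1, one_mul]
  by_cases hy1 : y = 1
  · rw [hy1, mul_one]; exact hd
  exfalso
  obtain ⟨U₀, hU₀, hexp, hfree⟩ := T.t60 N hN K U D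
  have hU₀1 : ∀ u ∈ U₀, u = 1 := fun u hu =>
    hfree u hu ⟨D.compl.1 (hU₀ hu), y, hy, hy1, (hcent u (le_sup_left (b := K) (hU₀ hu))).symm⟩
  have h1 : Monoid.exponent U₀ = 1 := by
    rw [Monoid.exp_eq_one_iff]
    exact ⟨fun a b => Subtype.ext ((hU₀1 a a.2).trans (hU₀1 b b.2).symm)⟩
  rw [hexp, Monoid.exp_eq_one_iff] at h1
  apply hU1
  rw [eq_bot_iff_forall]
  intro u hu
  exact congrArg Subtype.val (h1.elim (⟨u, hu⟩ : U) 1)

end Cfsg.Agent.Lib.Helper2.BG76
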