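import Cfsg.Agent.Lib.Helper2.BG76A

/-!
Bender-Glauberman 14.4(c2) (statement S1376): the configuration `Ctx` exists; `C_M(x) ≤ U`.
-/

set_option autoImplicit false
set_option linter.unusedSectionVars false
set_option linter.unusedVariables false

namespace Cfsg.Agent.Lib.Helper2.BG76

open Subgroup Cfsg.Agent.Lib.Helper30 Cfsg.Agent.Lib.Helper2 Cfsg.Agent.Lib.Helper68

universe u

variable {G : Type u} [Group G] [Finite G]

theorem exists_ctx (T : Tx G) {M N : Subgroup G} (hM : IsCoatom M) (hN : IsCoatom N) {x : G}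
    (hx : x ∈ Cfsg.sigmaCore M) {r : ℕ} (hr : r.Prime) (hxr : orderOf x = r)
    (hxM : ¬ centralizer ({x} : Set G) ≤ M) (hxN : centralizer ({x} : Set G) ≤ N)
    (hkN : (Cfsg.kappa N).Nonempty) : ∃ L K U : Subgroup G, Ctx M N L K U x r := by
  have hG := T.hG
  have : Fact r.Prime := ⟨hr⟩
  have hx1 : x ≠ 1 := by
    rintro rfl
    rw [orderOf_one] at hxr
    exact hr.one_lt.ne hxr
  obtain ⟨N', ⟨hN', hxN'⟩, huniq, -, -, -, hMN', hdec⟩ := T.t75 M hM x hx hx1 hxM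
  obtain rfl : N = N' := huniq N hN hxN
  obtain ⟨K, U, D, hUK⟩ := exists_decomp_in T hN hMN'
  obtain ⟨hU1, hxA, hxNσ⟩ := hdec K U D
  obtain ⟨q, hq⟩ := hkN
  have hK1 : K ≠ ⊥ := BG16.K_ne_bot_of_kappa D hq
  obtain ⟨hD, -⟩ := T.t65 N hN K U D hK1
  have hxC : x ∈ centralizer ({x} : Set G) := mem_centralizer_singleton_iff.mpr rfl
  have hxU : x ∈ U := by
    have h1 : x ∈ U ⊔ K := by
      rw [hUK]
      exact mem_inf.mpr ⟨BG16.sigmaCore_le M hx, hxN hxC⟩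
    obtain ⟨u, hu, k, hk, e⟩ := (mem_sup_of_le_normalizer D.normal).mp h1
    have hk1 : k ∈ ⁅N, N⁆ ⊓ K := by
      refine mem_inf.mpr ⟨?_, hk⟩
      rw [hD]
      have : k = u⁻¹ * x := by rw [e]; group
      rw [this]
      exact mul_mem (le_sup_left (b := Cfsg.sigmaCore N) (inv_mem hu)) hxA.2
    rw [(BG16.isComplIn_commutator D hD).2.2.1, mem_bot] at hk1
    rw [e, hk1, mul_one]
    exact hu
  obtain ⟨L, ⟨hL, hKst, hKstH⟩, -⟩ := T.t66 N hN K U D hK1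
  have hrU : r ∣ Nat.card U := by
    rw [← hxr]
    have := orderOf_dvd_natCard (⟨x, hxU⟩ : U)
    rwa [Subgroup.orderOf_mk] at this
  obtain ⟨R⟩ : Nonempty (Sylow r U) := inferInstance
  have hR := isSylowIn_of_sylow R
  have hR1 : (R : Subgroup U).map U.subtype ≠ ⊥ := by
    intro hb
    apply hR.not_dvd
    rwa [hb, relIndex_bot_left]
  have hRt : (R : Subgroup U).map U.subtype ≠ ⊤ := by
    intro ht
    apply hN.1
    rw [eq_top_iff, ← ht]
    exact hR.le.trans D.compl.1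
  obtain ⟨H, hH, hNR⟩ := exists_coatom_ge (normalizer_ne_top hG hR1 hRt)
  obtain ⟨hκ, hUσ, hNH, -, -, hE⟩ :=
    T.t35 N hN K U D hK1 hU1 L hL hKst hKstH r hrU R H hH hNR
  have hrH : r ∈ Cfsg.sigma H :=
    Cfsg.Agent.Lib.Helper24.BG14.prime_mem_sigma_of_dvd_order hG hH (hUσ hxU) hr (hxr ▸ dvd_rfl)
  have hrM : r ∈ Cfsg.sigma M :=
    Cfsg.Agent.Lib.Helper24.BG14.prime_mem_sigma_of_dvd_order hG hM hx hr (hxr ▸ dvd_rfl)
  obtain ⟨g, hg⟩ := (Cfsg.Agent.S1378.result hG).2 M H hM hH ⟨r, hrM, hrH⟩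
  obtain ⟨-, R', -, hR'c, hR'u⟩ := T.t74 M hM x hx hx1
  obtain ⟨c, ⟨hcR, hce⟩, -⟩ := hR'u g (hg ▸ BG16.sigmaCore_le H (hUσ hxU))
  have hcN : c ∈ N := hxN (hR'c.2.1 hcR)
  have hHc : H = cj c M := hg.trans hce.symm
  have hcn : c ∈ normalizer ((U ⊔ K : Subgroup G) : Set G) := by
    apply mem_normalizer_of_cj_eq
    rw [hUK, cj_inf, cj_eq_of_mem hcN, ← hHc, inf_comm, hNH, hUK]
  have hcM : c ∈ M := by
    have := mem_of_normalizes T hN D hU1 hcN hcn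
    rw [hUK] at this
    exact this.1
  rw [cj_eq_of_mem hcM] at hHc
  subst hHc
  exact ⟨L, K, U, hM, hN, hL, D, hK1, hU1, hKst, hKstH, hr, hxU, hxr, hx, hxNσ, hxM, hxN, hUK.symm,
    hκ, hUσ, hE⟩

namespace Ctx

variable {M N L K U : Subgroup G} {x : G} {r : ℕ}

theorem hx1 (C : Ctx M N L K U x r) : x ≠ 1 := by
  rintro rfl
  have := C.hxr
  rw [orderOf_one] at this
  exact C.hr.one_lt.ne this

/-- `C_M(x) ≤ U`. -/
theorem cent_le (T : Tx G) (C : Ctx M N L K U x r) : M ⊓ centralizer ({x} : Set G) ≤ U := by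
  intro e he
  obtain ⟨he1, he2⟩ := mem_inf.mp he
  have h1 : e ∈ U ⊔ K := by
    rw [← C.hMN]
    exact mem_inf.mpr ⟨he1, C.hxN he2⟩
  obtain ⟨u, hu, k, hk, rfl⟩ := (mem_sup_of_le_normalizer C.D.normal).mp h1
  have hUc := (T.t63 N C.hN K U C.D C.hK1).1
  have hux : u * x = x * u := congrArg Subtype.val (hUc.is_comm.comm (⟨u, hu⟩ : U) ⟨x, C.hxU⟩)
  rw [mem_centralizer_singleton_iff] at he2
  have hkx : k * x = x * k := by
    have e1 : k * x = u⁻¹ * (u * k * x) := by group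
    rw [e1, he2]
    have e2 : u⁻¹ * (x * (u * k)) = u⁻¹ * (x * u) * k := by group
    rw [e2, ← hux]
    group
  by_cases hk1 : k = 1
  · rw [hk1, mul_one]; exact hu
  exfalso
  have h2 : x ∈ U ⊓ centralizer ({k} : Set G) :=
    mem_inf.mpr ⟨C.hxU, mem_centralizer_singleton_iff.mpr hkx.symm⟩
  rw [T.t53 N C.hN K U C.D k hk hk1, mem_bot] at h2
  exact C.hx1 h2

theorem K_le_M (C : Ctx M N L K U x r) : K ≤ M :=
  (le_sup_right.trans C.hMN.ge).trans inf_le_left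

theorem K_le_Lσ (C : Ctx M N L K U x r) : K ≤ Cfsg.sigmaCore L := by
  have := C.hKst.le
  exact this.trans inf_le_left

theorem K_le_E (C : Ctx M N L K U x r) : K ≤ M ⊓ L :=
  le_inf C.K_le_M (C.K_le_Lσ.trans (BG16.sigmaCore_le L))

end Ctx

end Cfsg.Agent.Lib.Helper2.BG76
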