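import Cfsg.Agent.Lib.Helper2.BG76B
import Cfsg.Agent.Lib.Helper40.BG76AB
import Cfsg.Agent.S1358
import Cfsg.Agent.S1429
import Cfsg.Agent.S1439

/-!
Bender-Glauberman 14.4(c2) (statement S1376): `M_σ` is nilpotent, `M' ≤ M_σ`, the complement `E = M ∩ L` is abelian.
-/

set_option autoImplicit false
set_option linter.unusedSectionVars false
set_option linter.unusedVariables false

namespace Cfsg.Agent.Lib.Helper2.BG76

open Subgroup Cfsg.Agent.Lib.Helper30 Cfsg.Agent.Lib.Helper2 Cfsg.Agent.Lib.Helper68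

universe u

variable {G : Type u} [Group G] [Finite G]

theorem le_fittingOf' {M N : Subgroup G} (hNM : N ≤ M) (hMN : M ≤ normalizer (N : Set G))
    (hnil : Group.IsNilpotent N) : N ≤ Cfsg.fittingOf M := by
  have h1 : N.subgroupOf M ≤ Cfsg.fittingSubgroup M := by
    apply le_sSup
    exact ⟨normal_subgroupOf_of_le_normalizer hMN,
      Group.nilpotent_of_mulEquiv (subgroupOfEquivOfLe hNM).symm⟩
  have h2 := Subgroup.map_mono (f := M.subtype) h1
  rwa [map_subgroupOf_eq_of_le hNM] at h2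

namespace Ctx

variable {M N L K U : Subgroup G} {x : G} {r : ℕ}

theorem card_K_prime (T : Tx G) (C : Ctx M N L K U x r) : (Nat.card K).Prime :=
  (T.t72 N C.hN K U C.D C.hK1 C.hU1).1

theorem card_K_not_sigma (T : Tx G) (C : Ctx M N L K U x r) : Nat.card K ∉ Cfsg.sigma M :=
  Cfsg.Agent.Lib.Helper28.BG12.not_mem_sigma_of_dvd_compl T.hG C.hM C.hE (C.card_K_prime T)
    (card_dvd_of_le C.K_le_E)

theorem nilpotent (T : Tx G) (C : Ctx M N L K U x r) : Group.IsNilpotent (Cfsg.sigmaCore M) := by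
  have hp := C.card_K_prime T
  have : Fact (Nat.card K).Prime := ⟨hp⟩
  have hpM : Nat.card K ∣ Nat.card M := card_dvd_of_le C.K_le_M
  have hpσ := C.card_K_not_sigma T
  obtain ⟨S⟩ : Nonempty (Sylow (Nat.card K) M) := inferInstance
  refine (Cfsg.Agent.S1429.result T.hG M C.hM ?_ (Nat.card K) hpM ?_ S).2.2
  · intro h
    have := h _ hp hpM hpσ
    rw [C.hκ] at this
    exact this
  · rintro (h | h)
    · exact hpσ h
    · rw [C.hκ] at h
      exact h

theorem rank_U (T : Tx G) (C : Ctx M N L K U x r) : ∀ q : ℕ, q.Prime → Cfsg.PRankLE q 2 ↥U := by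
  intro q hq
  have : Fact q.Prime := ⟨hq⟩
  obtain ⟨P⟩ : Nonempty (Sylow q U) := inferInstance
  have h1 := (Cfsg.Agent.S1358.result T.hG N C.hN K U C.D q hq P).2
  apply BG12.pRankLE_of_sylow (isSylowIn_of_sylow P)
  intro A hA hAe
  have e := equivMapOfInjective (P : Subgroup U) U.subtype U.subtype_injective
  have h2 := h1 (A.map e.symm.toMonoidHom) ?_ ?_
  · rwa [card_map_of_injective e.symm.injective] at h2
  · refine ⟨⟨?_⟩⟩
    rintro ⟨_, a, ha, rfl⟩ ⟨_, b, hb, rfl⟩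
    apply Subtype.ext
    have := hA.is_comm.comm (⟨a, ha⟩ : A) ⟨b, hb⟩
    have h3 : a * b = b * a := congrArg Subtype.val this
    show e.symm.toMonoidHom a * e.symm.toMonoidHom b = e.symm.toMonoidHom b * e.symm.toMonoidHom a
    rw [← map_mul, ← map_mul, h3]
  · rintro _ ⟨a, ha, rfl⟩
    rw [← map_pow, hAe a ha, map_one]

/-- `M' ≤ M_σ`. -/
theorem commutator_le (T : Tx G) (C : Ctx M N L K U x r) : ⁅M, M⁆ ≤ Cfsg.sigmaCore M := by
  have hG := T.hG
  have : Fact r.Prime := ⟨C.hr⟩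
  have hnil := C.nilpotent T
  have hσM := BG16.sigmaCore_le M
  have hσn := BG16.le_normalizer_sigmaCore M
  have hxr : x ^ r = 1 := by rw [← C.hxr]; exact pow_orderOf_eq_one x
  have h1 : ⁅M, M⁆ ≤ Cfsg.fittingOf M :=
    Cfsg.Agent.Lib.Helper40.BG76.commutator_le_fittingOf (r := r) (solvable_of_ne_top hG C.hM.1)
      (Odd.of_dvd_nat hG.1 (card_subgroup_dvd_card _)) hσM hσn hnil C.hxσ
      hxr (C.cent_le T) (C.rank_U T)
  obtain ⟨-, -, h39⟩ := Cfsg.Agent.S1439.result hG M C.hM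
  set Y := Cfsg.piCoreOf {q | q.Prime ∧ q ∉ Cfsg.sigma M} (Cfsg.fittingOf M) with hY
  have hYF : Y ≤ Cfsg.fittingOf M := piCoreOf_le _ _
  have hFM : Cfsg.fittingOf M ≤ M := map_subtype_le _
  have hσF : Cfsg.sigmaCore M ≤ Cfsg.fittingOf M := le_fittingOf' hσM hσn hnil
  have hYσ : Y ⊓ Cfsg.sigmaCore M = ⊥ := by
    apply (Subgroup.disjoint_of_coprime_natCard _).eq_bot
    apply Nat.coprime_of_dvd
    intro q hq h2 h3
    exact (piCoreOf_isPi _ _ q hq h2).2 (piCoreOf_isPi (Cfsg.sigma M) M q hq h3)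
  have hYx : Y ≤ M ⊓ centralizer ({x} : Set G) := by
    intro y hy
    refine mem_inf.mpr ⟨hFM (hYF hy), ?_⟩
    rw [mem_centralizer_singleton_iff]
    have h2 : y * x * y⁻¹ * x⁻¹ ∈ Y ⊓ Cfsg.sigmaCore M := by
      refine mem_inf.mpr ⟨?_, ?_⟩
      · have h3 := (mem_normalizer_iff.mp (le_normalizer_piCoreOf _ _ (hσF C.hxσ)) y⁻¹).mp
          (inv_mem hy)
        have e1 : y * x * y⁻¹ * x⁻¹ = y * (x * y⁻¹ * x⁻¹) := by group
        rw [e1]
        exact mul_mem hy h3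
      · exact mul_mem ((mem_normalizer_iff.mp (hσn (hFM (hYF hy))) x).mp C.hxσ) (inv_mem C.hxσ)
    rw [hYσ, mem_bot] at h2
    have e2 : y * x = (y * x * y⁻¹ * x⁻¹) * (x * y) := by group
    rw [e2, h2, one_mul]
  have hY1 : Y = ⊥ := by
    rw [eq_bot_iff, ← hYσ]
    exact le_inf le_rfl ((hYx.trans (C.cent_le T)).trans C.hUσ)
  rw [h39, hY1, sup_bot_eq] at h1
  exact h1.trans (map_subtype_le _)

/-- `E = M ∩ L` is abelian. -/
theorem E_comm (T : Tx G) (C : Ctx M N L K U x r) : ∀ a ∈ M ⊓ L, ∀ b ∈ M ⊓ L, a * b = b * a := by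
  intro a ha b hb
  have h1 : a * b * a⁻¹ * b⁻¹ ∈ (M ⊓ L) ⊓ Cfsg.sigmaCore M := by
    refine mem_inf.mpr ⟨mul_mem (mul_mem (mul_mem ha hb) (inv_mem ha)) (inv_mem hb), ?_⟩
    apply C.commutator_le T
    exact commutator_mem_commutator ha.1 hb.1
  rw [C.hE.2.2.1, mem_bot] at h1
  have e2 : a * b = (a * b * a⁻¹ * b⁻¹) * (b * a) := by group
  rw [e2, h1, one_mul]

end Ctx

end Cfsg.Agent.Lib.Helper2.BG76
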