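import Cfsg.Agent.Lib.Helper2.BG76C
import Cfsg.Agent.Lib.Helper54.CoprimeGen
import Cfsg.Agent.Lib.Helper98.FW.Main

/-!
Bender-Glauberman 14.4(c2) (statement S1376): pure lemmas (coprime generation, abelian Sylow subgroups, a consequence of
the Frobenius-Wielandt fixed point formula).
-/

set_option autoImplicit false
set_option linter.unusedSectionVars false
set_option linter.unusedVariables false

namespace Cfsg.Agent.Lib.Helper2.BG76

open Subgroup Cfsg.Agent.Lib.Helper30 Cfsg.Agent.Lib.Helper2 Cfsg.Agent.Lib.Helper68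

universe u

variable {G : Type u} [Group G] [Finite G]

theorem centralizer_zpowers' (a : G) :
    centralizer ((zpowers a : Subgroup G) : Set G) = centralizer ({a} : Set G) := by
  rw [zpowers_eq_closure, centralizer_closure]

theorem card_zpowers_of_pow {s : ℕ} [hs : Fact s.Prime] {a : G} (ha : a ^ s = 1) (ha1 : a ≠ 1) :
    Nat.card (zpowers a) = s := by
  rw [Nat.card_zpowers]
  exact orderOf_eq_prime ha ha1

/-- a noncyclic elementary abelian group acting coprimely has a non-identity element with fixed points. -/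
theorem exists_cent_ne_bot {s : ℕ} [hs : Fact s.Prime] {A H : Subgroup G}
    (hA : Cfsg.IsElementaryAbelian s A) (hc : Nat.card A = s ^ 2)
    (hAH : A ≤ normalizer (H : Set G)) (hsH : ¬ s ∣ Nat.card H) (hH1 : H ≠ ⊥) :
    ∃ a ∈ A, a ≠ 1 ∧ H ⊓ centralizer ({a} : Set G) ≠ ⊥ := by
  by_contra hcon
  push Not at hcon
  have hA1 : A ≠ ⊥ := by
    rintro rfl
    rw [card_bot] at hc
    have := Nat.one_lt_pow (n := 2) (by norm_num) hs.out.one_lt
    omega
  obtain ⟨a, ha, ha1⟩ := BG16.exists_ne_one_of_ne_bot hA1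
  have hb : ∃ b ∈ A, b ∉ zpowers a := by
    by_contra hb
    push Not at hb
    have h1 : Nat.card A ≤ Nat.card (zpowers a) := card_le_of_le (fun b hbA => hb b hbA)
    rw [hc, card_zpowers_of_pow (hA.2 a ha) ha1] at h1
    have := hs.out.one_lt
    nlinarith
  obtain ⟨b, hb, hba⟩ := hb
  have hab : Commute a b := congrArg Subtype.val (hA.1.is_comm.comm (⟨a, ha⟩ : A) ⟨b, hb⟩)
  have hsol : Group.IsSolvable A := by
    have := BG16.isNilpotent_of_comm' hA.1
    infer_instance
  have hcop : (Nat.card A).Coprime (Nat.card H) := by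
    rw [hc]
    exact Nat.Coprime.pow_left 2 ((Nat.Prime.coprime_iff_not_dvd hs.out).mpr hsH)
  have h1 := Cfsg.Agent.Lib.Helper54.le_genC s hAH hcop hsol ha hb hab (hA.2 a ha) (hA.2 b hb) hsH
  apply hH1
  rw [eq_bot_iff]
  refine h1.trans ?_
  rw [Cfsg.Agent.Lib.Helper54.genC]
  apply sup_le
  · rw [hcon a ha ha1]
  · apply iSup_le
    intro i
    rw [hcon (a ^ i * b) (mul_mem (pow_mem ha i) hb)]
    intro h2
    apply hba
    have : b = (a ^ i)⁻¹ := eq_inv_of_mul_eq_one_right h2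
    rw [this]
    exact inv_mem (pow_mem (mem_zpowers a) i)

/-- if one Sylow `s`-subgroup is abelian, all `s`-subgroups are. -/
theorem comm_of_sylow_comm {s : ℕ} [hs : Fact s.Prime] {S : Sylow s G}
    (hS : IsMulCommutative (S : Subgroup G)) :
    ∀ P : Subgroup G, IsPGroup s P → ∀ a ∈ P, ∀ b ∈ P, a * b = b * a := by
  intro P hP a ha b hb
  obtain ⟨Q, hQ⟩ := hP.exists_le_sylow
  obtain ⟨g, rfl⟩ := MulAction.exists_smul_eq G S Q
  have h1 : ∀ y ∈ P, g⁻¹ * y * g ∈ (S : Subgroup G) := by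
    intro y hy
    have h2 := hQ hy
    rw [Sylow.coe_subgroup_smul, ← cj_eq_smul, mem_cj] at h2
    exact h2
  have h2 : (g⁻¹ * a * g) * (g⁻¹ * b * g) = (g⁻¹ * b * g) * (g⁻¹ * a * g) :=
    congrArg Subtype.val (hS.is_comm.comm (⟨_, h1 a ha⟩ : (S : Subgroup G)) ⟨_, h1 b hb⟩)
  have e1 : a * b = g * ((g⁻¹ * a * g) * (g⁻¹ * b * g)) * g⁻¹ := by group
  rw [e1, h2]
  group

/-- consequence of the Frobenius-Wielandt formula -/
theorem fw_eq {D E Q K : Subgroup G} (hED : E ≤ normalizer (D : Set G)) (hnil : Group.IsNilpotent D)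
    (hfpf : ∀ e ∈ E, e ≠ 1 → ∀ u ∈ D, e * u = u * e → u = 1)
    (hDQ : D ≤ normalizer (Q : Set G)) (hEQ : E ≤ normalizer (Q : Set G))
    (hsol : Group.IsSolvable Q) (hcop : (Nat.card Q).Coprime (Nat.card ↥(D ⊔ E)))
    (hQE : Q ⊓ centralizer (E : Set G) = K) (hKD : K ≤ centralizer (D : Set G)) :
    Q ≤ centralizer (D : Set G) := by
  have h := Cfsg.Agent.Lib.Helper98.FW.fw_formula D E hED hnil hfpf Q (sup_le hDQ hEQ) hsol hcop
  have h1 : Q ⊓ centralizer ((D ⊔ E : Subgroup G) : Set G) = K := by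
    apply le_antisymm
    · rw [← hQE]
      exact inf_le_inf_left Q (Subgroup.centralizer_le (by exact_mod_cast (le_sup_right : E ≤ D ⊔ E)))
    · refine le_inf (hQE ▸ inf_le_left) ?_
      rw [le_centralizer_iff]
      apply sup_le
      · rw [le_centralizer_iff]; exact hKD
      · rw [le_centralizer_iff]; exact hQE ▸ inf_le_right
  rw [h1, hQE] at h
  have h2 : Nat.card Q = Nat.card ↥(Q ⊓ centralizer (D : Set G)) :=
    Nat.eq_of_mul_eq_mul_left (pow_pos Nat.card_pos _) h
  have h3 : Q ⊓ centralizer (D : Set G) = Q :=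
    Subgroup.eq_of_le_of_card_ge inf_le_left h2.le
  rw [← h3]
  exact inf_le_right

end Cfsg.Agent.Lib.Helper2.BG76
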