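import Cfsg.Agent.Lib.Helper2.BG76D
import Cfsg.Agent.Lib.Helper40.BG76Z
import Cfsg.Agent.S1418
import Cfsg.Agent.S1419
import Cfsg.Agent.S1430

/-!
Bender-Glauberman 14.4(c2) (statement S1376): `τ₂(M) = ∅`.
-/

set_option autoImplicit false
set_option linter.unusedSectionVars false
set_option linter.unusedVariables false

namespace Cfsg.Agent.Lib.Helper2.BG76

open Subgroup Cfsg.Agent.Lib.Helper30 Cfsg.Agent.Lib.Helper2 Cfsg.Agent.Lib.Helper68

universe u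

variable {G : Type u} [Group G] [Finite G]

namespace Ctx

variable {M N L K U : Subgroup G} {x : G} {r : ℕ}

theorem hKst' (C : Ctx M N L K U x r) : K = Cfsg.sigmaCore L ⊓
    centralizer ((Cfsg.sigmaCore N ⊓ centralizer (K : Set G) : Subgroup G) : Set G) :=
  C.hKst.trans (by rw [Subgroup.coe_inf]; rfl)

theorem Ks_ne_bot (T : Tx G) (C : Ctx M N L K U x r) :
    Cfsg.sigmaCore N ⊓ centralizer (K : Set G) ≠ ⊥ :=
  (T.t54 N C.hN K C.D.cyclic C.D.hall).1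

theorem L_ne_M (T : Tx G) (C : Ctx M N L K U x r) : L ≠ M := by
  intro h
  have h1 : Nat.card ↥(Cfsg.sigmaCore N ⊓ centralizer (K : Set G)) ≠ 1 :=
    fun hc => C.Ks_ne_bot T (card_eq_one.mp hc)
  obtain ⟨q, hq, hd⟩ := Nat.exists_prime_and_dvd h1
  have h2 := C.hKstH.2.1 q hq hd
  rw [h, C.hκ] at h2
  exact h2

theorem card_K_sigma (T : Tx G) (C : Ctx M N L K U x r) : Nat.card K ∈ Cfsg.sigma L :=
  piCoreOf_isPi (Cfsg.sigma L) L _ (C.card_K_prime T) (card_dvd_of_le C.K_le_Lσ)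

/-- no Sylow `p`-subgroup of `L_σ` (`p = #K`) lies in `M`. -/
theorem sylow_not_le (T : Tx G) (C : Ctx M N L K U x r) {Q : Subgroup G}
    (hQ : IsSylowIn (Nat.card K) Q (Cfsg.sigmaCore L)) : ¬ Q ≤ M := by
  intro hQM
  have hp := C.card_K_prime T
  have : Fact (Nat.card K).Prime := ⟨hp⟩
  obtain ⟨S, hS⟩ := hQ.exists_sylow
  have h1 := (T.t31 L C.hL _ C.hKstH (C.Ks_ne_bot T)).2.2.1 (Nat.card K) hp
    (by rw [← C.hKst']) S
  rw [hS] at h1
  exact C.L_ne_M T (uniq_eq h1.1 C.hM hQM C.hL h1.2.1)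

/-- the data attached to a prime of `τ₂(M)` -/
theorem tau2_data (T : Tx G) (C : Ctx M N L K U x r) {s : ℕ} [Fact s.Prime]
    (hs : s ∈ Cfsg.tau2 M) :
    ∃ A : Subgroup G, ∃ a : G, A ≤ M ⊓ L ∧ Cfsg.IsElementaryAbelian s A ∧ a ∈ A ∧ a ≠ 1 ∧
      (centralizer ({a} : Set G) ≤ M ∧
        ∀ L' : Subgroup G, IsCoatom L' → centralizer ({a} : Set G) ≤ L' → L' = M) ∧
      ∀ P : Subgroup G, IsPGroup s P → ∀ a ∈ P, ∀ b ∈ P, a * b = b * a := by
  have hG := T.hG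
  obtain ⟨A, hAE, hA, hc⟩ := Cfsg.Agent.Lib.Helper28.BG12.exists_ea_sq_in_compl hG C.hM C.hE hs
  have hσ1 : Cfsg.sigmaCore M ≠ ⊥ := fun h => C.hx1 (by
    have := C.hxσ
    rwa [h, mem_bot] at this)
  have hsσ : ¬ s ∣ Nat.card (Cfsg.sigmaCore M) := fun h =>
    hs.2.1 (piCoreOf_isPi (Cfsg.sigma M) M s hs.1 h)
  obtain ⟨a, ha, ha1, hac⟩ := exists_cent_ne_bot hA hc
    ((hAE.trans inf_le_left).trans (BG16.le_normalizer_sigmaCore M)) hsσ hσ1
  have h18 := (Cfsg.Agent.S1418.result hG M C.hM (M ⊓ L) C.hE s hs A ⟨hAE, hA, hc⟩).2.2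
    (zpowers a) (zpowers_le.mpr ha) (card_zpowers_of_pow (hA.2 a ha) ha1)
    (by rw [centralizer_zpowers']; exact hac)
  rw [centralizer_zpowers'] at h18
  refine ⟨A, a, hAE, hA, ha, ha1, h18, ?_⟩
  by_cases h : ∀ S : Sylow s G, ¬ IsMulCommutative (S : Subgroup G)
  · exfalso
    have h19 := (Cfsg.Agent.S1419.result hG M C.hM (M ⊓ L) C.hE s hs h A ⟨hAE, hA, hc⟩).2.1.1
    have h1 : A ⊓ centralizer (Cfsg.sigmaCore M : Set G) ≤ (M ⊓ L) ⊓ Cfsg.sigmaCore M := by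
      refine le_inf (inf_le_left.trans hAE) ?_
      refine le_trans ?_ ((C.cent_le T).trans C.hUσ)
      refine le_inf (inf_le_left.trans (hAE.trans inf_le_left)) (inf_le_right.trans ?_)
      exact Subgroup.centralizer_le (by simpa using C.hxσ)
    rw [C.hE.2.2.1, le_bot_iff] at h1
    rw [h1, card_bot] at h19
    exact hs.1.one_lt.ne h19
  · push Not at h
    obtain ⟨S, hS⟩ := h
    exact comm_of_sylow_comm hS

/-- a prime of `τ₂(M)` lies in `σ(L)`. -/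
theorem tau2_sigma (T : Tx G) (C : Ctx M N L K U x r) {s : ℕ} [Fact s.Prime] {a : G}
    (haE : a ∈ M ⊓ L) (has : a ^ s = 1) (ha1 : a ≠ 1)
    (hCa : centralizer ({a} : Set G) ≤ M ∧
        ∀ L' : Subgroup G, IsCoatom L' → centralizer ({a} : Set G) ≤ L' → L' = M) :
    s ∈ Cfsg.sigma L := by
  have hG := T.hG
  have hsp : s.Prime := Fact.out
  by_contra hsL
  have hao : orderOf a = s := orderOf_eq_prime has ha1
  obtain ⟨k, hk, hk1⟩ := BG16.exists_ne_one_of_ne_bot C.hK1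
  have hak : a * k = k * a := C.E_comm T a haE k (C.K_le_E hk)
  have hσ : ∀ p : ℕ, p.Prime → p ∣ orderOf a → p ∉ Cfsg.sigma L := by
    intro p hp hpd
    rw [hao] at hpd
    rwa [(Nat.prime_dvd_prime_iff_eq hp hsp).mp hpd]
  rcases T.t32 L C.hL k (C.K_le_Lσ hk) hk1 a
    (mem_inf.mpr ⟨haE.2, mem_centralizer_singleton_iff.mpr hak⟩) ha1 hσ with ⟨h1, -⟩ | ⟨-, -, h3, h4⟩
  · have hsκ : s ∈ Cfsg.kappa L := h1 s hsp (hao ▸ dvd_rfl)
    have hLs := solvable_of_ne_top hG C.hL.1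
    obtain ⟨Y, hY, -, haY⟩ := Cfsg.Agent.Lib.Helper66.exists_invariant_isPiHallOf_ge
      (π := Cfsg.kappa L) (A := (⊥ : Subgroup G)) (G := L) (U := zpowers a) bot_le
      (by rw [Subgroup.card_bot]; exact Nat.coprime_one_left _) hLs (zpowers_le.2 haE.2) bot_le
      (fun q hq hqd => by
        rw [Nat.card_zpowers, hao] at hqd
        rw [(Nat.prime_dvd_prime_iff_eq hq hsp).mp hqd]; exact hsκ)
    obtain ⟨m, hm, e⟩ := Cfsg.Agent.Lib.Helper66.isPiHallOf_exists_conj hLs hY C.hKstH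
    have hma : cj m (zpowers a) ≤ Cfsg.sigmaCore N ⊓ centralizer (K : Set G) := by
      rw [e]
      exact cj_mono m haY
    have h67 := (T.t67 N C.hN K U C.D C.hK1 L C.hL C.hKst C.hKstH).1 (cj m (zpowers a)) hma
      (by rw [card_cj, Nat.card_zpowers, hao]; exact hsp)
    have h5 : cj m M = N := by
      apply h67.2 _ (Cfsg.Agent.Lib.Helper28.BG12.isCoatom_cj C.hM m)
      rw [centralizer_cj, centralizer_zpowers']
      exact cj_mono m hCa.1
    have hrM : r ∈ Cfsg.sigma M :=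
      Cfsg.Agent.Lib.Helper24.BG14.prime_mem_sigma_of_dvd_order hG C.hM C.hxσ C.hr
        (C.hxr ▸ dvd_rfl)
    have hrN : r ∈ Cfsg.sigma N := by
      rw [← h5, Cfsg.Agent.Lib.Helper24.BG14.sigma_cj]
      exact hrM
    apply C.hxNσ
    apply Cfsg.Agent.Lib.Helper24.BG14.mem_sigmaCore_of_order hG C.hN (C.D.compl.1 C.hxU)
    intro p hp hpd
    rw [C.hxr] at hpd
    rwa [(Nat.prime_dvd_prime_iff_eq hp C.hr).mp hpd]
  · exact C.L_ne_M T (hCa.2 L C.hL h3)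

end Ctx

end Cfsg.Agent.Lib.Helper2.BG76
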