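import Cfsg.Agent.Lib.Helper2.BG76E

/-!
Bender-Glauberman 14.4(c2) (statement S1376): `τ₂(M) = ∅`, end of the proof.
-/

set_option autoImplicit false
set_option linter.unusedSectionVars false
set_option linter.unusedVariables false

namespace Cfsg.Agent.Lib.Helper2.BG76

open Subgroup Cfsg.Agent.Lib.Helper30 Cfsg.Agent.Lib.Helper2 Cfsg.Agent.Lib.Helper68

universe u

variable {G : Type u} [Group G] [Finite G]

theorem le_of_isPGroup_normal_sylow {p : ℕ} [hp : Fact p.Prime] {Q X P : Subgroup G}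
    (hQ : IsSylowIn p Q X) (hn : X ≤ normalizer (Q : Set G)) (hPX : P ≤ X) (hP : IsPGroup p P) :
    P ≤ Q := by
  apply BG12.le_of_coprime_relIndex hQ.le hn hPX
  obtain ⟨k, hk⟩ := IsPGroup.iff_card.mp hP
  rw [hk]
  apply Nat.Coprime.pow_left
  rw [Nat.Prime.coprime_iff_not_dvd hp.out]
  exact hQ.not_dvd

namespace Ctx

variable {M N L K U : Subgroup G} {x : G} {r : ℕ}

theorem tau2_empty (T : Tx G) (C : Ctx M N L K U x r) : Cfsg.tau2 M = ∅ := by
  have hG := T.hG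
  rw [Set.eq_empty_iff_forall_notMem]
  intro s hs
  have : Fact s.Prime := ⟨hs.1⟩
  obtain ⟨A, a, hAE, hA, ha, ha1, hCa, hab⟩ := C.tau2_data T hs
  have hsL := C.tau2_sigma T (hAE ha) (hA.2 a ha) ha1 hCa
  have hAσ : A ≤ Cfsg.sigmaCore L := Cfsg.Agent.Lib.Helper28.BG12.isPGroup_le_sigmaCore hG C.hL hsL
    (hAE.trans inf_le_right) (ea_isPGroup hA)
  have hp := C.card_K_prime T
  have hpF : Fact (Nat.card K).Prime := ⟨hp⟩
  have hσL := BG16.sigmaCore_le L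
  by_cases hF : Cfsg.fittingHallOf L = Cfsg.sigmaCore L
  · have hnil : Group.IsNilpotent (Cfsg.sigmaCore L) := hF ▸ BG16.fittingHallOf_nilpotent L
    have h1 := Cfsg.Agent.Lib.Helper40.BG76.le_centralizer_of_nilpotent hnil hab (hAσ ha) (hA.2 a ha)
    obtain ⟨Q, hQ⟩ := exists_isSylowIn (Nat.card K) (Cfsg.sigmaCore L)
    exact C.sylow_not_le T hQ ((hQ.le.trans h1).trans hCa.1)
  set Ks := Cfsg.sigmaCore N ⊓ centralizer (K : Set G) with hKs
  obtain ⟨⟨Us, DL⟩, -⟩ := T.t52 L C.hL Ks ((T.t51 L C.hL).2 Ks C.hKstH) C.hKstH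
  obtain ⟨-, -, -, -, -, -, Q, hQF, hQn, hQp, hQidx, hQD⟩ := T.t37 L C.hL Ks Us DL hF
  rw [← C.hKst'] at hQp hQidx
  have hQσ : Q ≤ Cfsg.sigmaCore L := Cfsg.Agent.Lib.Helper28.BG12.isPGroup_le_sigmaCore hG C.hL
    (C.card_K_sigma T) (hQF.trans (Cfsg.Agent.Lib.Helper29.fittingHallOf_le L)) hQp
  have hQS : IsSylowIn (Nat.card K) Q (Cfsg.sigmaCore L) := ⟨hQσ, hQp, hQidx⟩
  have hQM := C.sylow_not_le T hQS
  have hσn : Cfsg.sigmaCore L ≤ normalizer (Q : Set G) := hσL.trans hQn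
  by_cases hsp : s = Nat.card K
  · apply hQM
    refine le_trans ?_ hCa.1
    have haQ : a ∈ Q := le_of_isPGroup_normal_sylow hQS hσn hAσ (hsp ▸ ea_isPGroup hA) ha
    intro y hy
    rw [mem_centralizer_singleton_iff]
    exact hab Q (hsp ▸ hQp) y hy a haQ
  have hLσs : Group.IsSolvable (Cfsg.sigmaCore L) :=
    isSolvable_of_le hσL (solvable_of_ne_top hG C.hL.1)
  obtain ⟨D, hD, -, hAD⟩ := Cfsg.Agent.Lib.Helper66.exists_invariant_isPiHallOf_ge
    (π := ({Nat.card K} : Set ℕ)ᶜ) (A := (⊥ : Subgroup G)) (G := Cfsg.sigmaCore L) (U := A) bot_le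
    (by rw [Subgroup.card_bot]; exact Nat.coprime_one_left _) hLσs hAσ bot_le
    (fun q hq hqd => by
      rw [Cfsg.Agent.Lib.Helper28.BG12.prime_dvd_card_isPGroup (ea_isPGroup hA) hq hqd]
      exact hsp)
  have hQH : Cfsg.IsPiHallOf (({Nat.card K} : Set ℕ)ᶜ)ᶜ Q (Cfsg.sigmaCore L) := by
    rw [compl_compl]
    refine ⟨hQσ, fun q hq hqd => ?_, fun q hq hqπ => ?_⟩
    · exact Cfsg.Agent.Lib.Helper28.BG12.prime_dvd_card_isPGroup hQp hq hqd
    · rw [Set.mem_singleton_iff.mp hqπ]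
      exact hQidx
  have hcD := Cfsg.Agent.Lib.Helper28.BG12.isComplIn_of_hall_compl hD hQH
  obtain ⟨hDnil, hQ0n, -, -⟩ := hQD D hcD
  have hDa := Cfsg.Agent.Lib.Helper40.BG76.le_centralizer_of_nilpotent hDnil hab (hAD ha) (hA.2 a ha)
  have hDE : D ≤ M ⊓ L := le_inf (hDa.trans hCa.1) (hD.1.trans hσL)
  have hKQ : K ≤ Q := le_of_isPGroup_normal_sylow hQS hσn C.K_le_Lσ
    (IsPGroup.of_card (n := 1) (by rw [pow_one]))
  have hKD : K ≤ Q ⊓ centralizer (D : Set G) := by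
    refine le_inf hKQ ?_
    intro k hk
    rw [mem_centralizer_iff]
    intro d hd
    exact C.E_comm T d (hDE hd) k (C.K_le_E hk)
  have hKsL : Ks ≤ L := C.hKstH.1
  have hcopKs : (Nat.card Ks).Coprime (Nat.card (Cfsg.sigmaCore L)) := by
    apply Nat.coprime_of_dvd
    intro q hq h1 h2
    exact (C.hKstH.2.1 q hq h1).2.2.1 (piCoreOf_isPi (Cfsg.sigma L) L q hq h2)
  obtain ⟨D₁, hD₁, hKsD₁, -⟩ := Cfsg.Agent.Lib.Helper66.exists_invariant_isPiHallOf_ge
    (π := ({Nat.card K} : Set ℕ)ᶜ) (A := Ks) (G := Cfsg.sigmaCore L) (U := (⊥ : Subgroup G))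
    (hKsL.trans (BG16.le_normalizer_sigmaCore L)) hcopKs hLσs bot_le
    (by
      intro k _
      rw [mem_normalizer_iff]
      intro h
      simp [mem_bot])
    (fun q hq hqd => by
      rw [Subgroup.card_bot] at hqd
      exact absurd (Nat.dvd_one.mp hqd) hq.one_lt.ne')
  obtain ⟨y, hy, e⟩ := Cfsg.Agent.Lib.Helper66.isPiHallOf_exists_conj hLσs hD hD₁
  have hcD₁ := Cfsg.Agent.Lib.Helper28.BG12.isComplIn_of_hall_compl hD₁ hQH
  obtain ⟨hD₁nil, -, hQ1lt, -⟩ := hQD D₁ hcD₁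
  have hKD₁ : K ≤ centralizer (D₁ : Set G) := by
    have h1 : cj y (Q ⊓ centralizer (D : Set G)) = Q ⊓ centralizer (D : Set G) :=
      cj_eq_of_mem_normalizer (hQ0n (hσL hy))
    rw [cj_inf, cj_eq_of_mem_normalizer (hQn (hσL hy)), ← centralizer_cj, ← e] at h1
    rw [← h1] at hKD
    exact hKD.trans inf_le_right
  have hKs1 := C.Ks_ne_bot T
  have h30 := (Cfsg.Agent.S1430.result hG L C.hL Ks C.hKstH hKs1).1
  have hfin : Q ≤ centralizer (D₁ : Set G) := by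
    apply fw_eq (E := Ks) (K := K) hKsD₁ hD₁nil _ ((hD₁.1.trans hσL).trans hQn) (hKsL.trans hQn)
      _ _ _ hKD₁
    · intro e' he' he'1 u hu heu
      have h1 : u ∈ Cfsg.sigmaCore L ⊓ centralizer ({e'} : Set G) :=
        mem_inf.mpr ⟨hD₁.1 hu, mem_centralizer_singleton_iff.mpr heu.symm⟩
      rw [h30 e' he' he'1, ← C.hKst'] at h1
      have h2 : u ∈ Q ⊓ D₁ := mem_inf.mpr ⟨hKQ h1, hu⟩
      rwa [hcD₁.2.2.1, mem_bot] at h2
    · have := hQp.isNilpotent
      infer_instance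
    · apply Nat.Coprime.coprime_dvd_right (Cfsg.Agent.Lib.Helper27.card_sup_dvd_mul hKsD₁)
      apply Nat.Coprime.mul_right
      · apply Nat.coprime_of_dvd
        intro q hq h1 h2
        exact hD₁.2.1 q hq h2 (Cfsg.Agent.Lib.Helper28.BG12.prime_dvd_card_isPGroup hQp hq h1)
      · apply Nat.coprime_of_dvd
        intro q hq h1 h2
        apply (C.hKstH.2.1 q hq h2).2.2.1
        rw [Cfsg.Agent.Lib.Helper28.BG12.prime_dvd_card_isPGroup hQp hq h1]
        exact C.card_K_sigma T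
    · apply le_antisymm
      · calc Q ⊓ centralizer (Ks : Set G) ≤ Cfsg.sigmaCore L ⊓ centralizer (Ks : Set G) :=
            inf_le_inf_right _ hQσ
          _ = K := C.hKst'.symm
      · exact le_inf hKQ (C.hKst'.le.trans inf_le_right)
  exact absurd (le_inf le_rfl hfin) (not_le_of_gt hQ1lt)

end Ctx

end Cfsg.Agent.Lib.Helper2.BG76
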