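import Cfsg.Agent.Lib.Helper2.BG76F
import Cfsg.Agent.Lib.Helper40.BG76FR
import Cfsg.Agent.Lib.Helper40.BG76ZG
import Cfsg.Agent.Lib.Helper56.BG152NIL
import Cfsg.Agent.Lib.Helper14.BG13A

/-!
Bender-Glauberman 14.4(c2) (statement S1376): the conclusion.
-/

set_option autoImplicit false
set_option linter.unusedSectionVars false
set_option linter.unusedVariables false

namespace Cfsg.Agent.Lib.Helper2.BG76

open Subgroup Cfsg.Agent.Lib.Helper30 Cfsg.Agent.Lib.Helper2 Cfsg.Agent.Lib.Helper68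

universe u

variable {G : Type u} [Group G] [Finite G]

namespace Ctx

variable {M N L K U : Subgroup G} {x : G} {r : ℕ}

/-- every prime divisor of `#E` has rank one in `M`. -/
theorem rank_one (T : Tx G) (C : Ctx M N L K U x r) {q : ℕ} (hq : q.Prime)
    (hqE : q ∣ Nat.card ↥(M ⊓ L)) : q ∉ Cfsg.sigma M ∧ Cfsg.PRankLE q 1 ↥M := by
  have hqσ := Cfsg.Agent.Lib.Helper28.BG12.not_mem_sigma_of_dvd_compl T.hG C.hM C.hE hq hqE
  refine ⟨hqσ, ?_⟩
  have hqM : q ∣ Nat.card M := hqE.trans (card_dvd_of_le inf_le_left)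
  rcases Cfsg.Agent.Lib.Helper14.BG13.tau_cases T.hG C.hM hq hqM hqσ with h | h | h
  · exact h.2.2.2.2
  · rw [C.tau2_empty T] at h
    exact h.elim
  · exact h.2.2.2

/-- `E` acts freely on `M_σ`. -/
theorem free (T : Tx G) (C : Ctx M N L K U x r) :
    ∀ e ∈ M ⊓ L, e ≠ 1 → ∀ y ∈ Cfsg.sigmaCore M, e * y = y * e → y = 1 := by
  intro e he he1 y hy hey
  by_contra hy1
  have ho : orderOf e ≠ 1 := fun h => he1 (orderOf_eq_one_iff.mp h)
  obtain ⟨q, hq, hqe⟩ := Nat.exists_prime_and_dvd ho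
  have : Fact q.Prime := ⟨hq⟩
  have hqE : q ∣ Nat.card ↥(M ⊓ L) := by
    refine hqe.trans ?_
    have := orderOf_dvd_natCard (⟨e, he⟩ : ↥(M ⊓ L))
    rwa [Subgroup.orderOf_mk] at this
  obtain ⟨hqσ, hq1⟩ := C.rank_one T hq hqE
  have h1 : orderOf (e ^ (orderOf e / q)) = q :=
    orderOf_pow_orderOf_div (orderOf_pos e).ne' hqe
  have h2 : e ^ (orderOf e / q) * y = y * e ^ (orderOf e / q) :=
    ((Commute.pow_left (show Commute e y from hey)) _).eq
  have h3 := Cfsg.Agent.Lib.Helper28.BG12.mem_kappa_of T.hG hqσ hq1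
    (pow_mem (mem_inf.mp he).1 _) h1 hy hy1 h2
  rw [C.hκ] at h3
  exact h3.elim

theorem main (T : Tx G) (C : Ctx M N L K U x r) :
    Cfsg.kappa M = ∅ ∧ (∃ E : Subgroup ↥M, Cfsg.IsFrobeniusComplement E ∧ IsCyclic E) ∧
      ¬ Cfsg.IsTISubset (Cfsg.fittingHallOf M : Set G) := by
  have hG := T.hG
  refine ⟨C.hκ, ⟨(M ⊓ L).subgroupOf M, ?_, ?_⟩, ?_⟩
  · apply Cfsg.Agent.Lib.Helper40.BG76.isFrobeniusComplement_of_free C.hE
      (BG16.le_normalizer_sigmaCore M) ?_ ?_ (C.free T)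
    · intro h
      apply C.hK1
      rw [eq_bot_iff, ← h]
      exact C.K_le_E
    · intro h
      have := C.hxσ
      rw [h, mem_bot] at this
      exact C.hx1 this
  · have hodd : Odd (Nat.card ↥(M ⊓ L)) := by
      have h1 : Odd (Nat.card G) := hG.1
      exact Odd.of_dvd_nat h1 (card_subgroup_dvd_card _)
    have h1 : IsCyclic ↥(M ⊓ L) :=
      Cfsg.Agent.Lib.Helper40.BG76.isCyclic_of_comm_of_rank_one (M := M) inf_le_left hodd
        (C.E_comm T) (fun s hs hsE => (C.rank_one T hs hsE).2)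
    exact isCyclic_of_surjective (subgroupOfEquivOfLe (inf_le_left : M ⊓ L ≤ M)).symm
      (subgroupOfEquivOfLe (inf_le_left : M ⊓ L ≤ M)).symm.surjective
  · intro hTI
    obtain ⟨c, hc, hcM⟩ := SetLike.not_le_iff_exists.mp C.hxM
    have hxF : x ∈ Cfsg.fittingHallOf M :=
      Cfsg.Agent.Lib.Helper56.BG152.le_fittingHallOf (BG16.sigmaCore_le M)
        (BG16.le_normalizer_sigmaCore M) (C.nilpotent T)
        (BG12.coprime_of_hall (Cfsg.Agent.Lib.Helper28.BG12.sigmaCore_hall hG C.hM)) C.hxσ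
    have hF1 : Cfsg.fittingHallOf M ≠ ⊥ := by
      intro h
      rw [h, mem_bot] at hxF
      exact C.hx1 hxF
    have hn : normalizer ((Cfsg.fittingHallOf M : Subgroup G) : Set G) = M :=
      normalizer_eq_of_coatom hG C.hM hF1 (Cfsg.Agent.Lib.Helper29.fittingHallOf_le M)
        (BG16.le_normalizer_fittingHallOf_of_le le_normalizer)
    apply C.hx1
    apply hTI c (by rw [hn]; exact hcM) x hxF
    have h1 : c * x = x * c := (mem_centralizer_iff.mp hc x rfl).symm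
    rw [h1, mul_inv_cancel_right]
    exact hxF

end Ctx

/-- S1376 from the texts. -/
theorem S1376_of (T : Tx G) (M : Subgroup G) (hM : IsCoatom M) (x : G)
    (hx : x ∈ Cfsg.sigmaCore M) (hx1 : x ≠ 1) (hxM : ¬ centralizer ({x} : Set G) ≤ M)
    (N : Subgroup G) (hN : IsCoatom N) (hxN : centralizer ({x} : Set G) ≤ N)
    (hkN : (Cfsg.kappa N).Nonempty) :
    Cfsg.kappa M = ∅ ∧ (∃ E : Subgroup ↥M, Cfsg.IsFrobeniusComplement E ∧ IsCyclic E) ∧
      ¬ Cfsg.IsTISubset (Cfsg.fittingHallOf M : Set G) := by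
  have ho : orderOf x ≠ 1 := fun h => hx1 (orderOf_eq_one_iff.mp h)
  obtain ⟨r, hr, hrx⟩ := Nat.exists_prime_and_dvd ho
  set x' := x ^ (orderOf x / r) with hx'
  have h1 : orderOf x' = r := orderOf_pow_orderOf_div (orderOf_pos x).ne' hrx
  have hx'σ : x' ∈ Cfsg.sigmaCore M := pow_mem hx _
  have hx'1 : x' ≠ 1 := by
    intro h
    rw [h, orderOf_one] at h1
    exact hr.one_lt.ne h1
  have hcc : centralizer ({x} : Set G) ≤ centralizer ({x'} : Set G) := by
    intro c hc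
    rw [mem_centralizer_iff] at hc ⊢
    intro y hy
    rw [Set.mem_singleton_iff] at hy
    subst hy
    exact ((Commute.pow_left (show Commute x c from hc x rfl)) _).eq
  have hx'M : ¬ centralizer ({x'} : Set G) ≤ M := fun h => hxM (hcc.trans h)
  obtain ⟨N', ⟨hN', hN'c⟩, -, -⟩ := T.t75 M hM x' hx'σ hx'1 hx'M
  obtain ⟨N'', -, huniq, -⟩ := T.t75 M hM x hx hx1 hxM
  have e1 : N' = N := (huniq N' hN' (hcc.trans hN'c)).trans (huniq N hN hxN).symm
  subst e1
  obtain ⟨L, K, U, C⟩ := exists_ctx T hM hN hx'σ hr h1 hx'M hN'c hkN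
  exact C.main T

end Cfsg.Agent.Lib.Helper2.BG76
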