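import Cfsg.Agent.Lib.Helper2.BG76G
import Cfsg.Agent.S1351
import Cfsg.Agent.S1352
import Cfsg.Agent.S1353
import Cfsg.Agent.S1354
import Cfsg.Agent.S1360
import Cfsg.Agent.S1363
import Cfsg.Agent.S1364
import Cfsg.Agent.S1365
import Cfsg.Agent.S1366
import Cfsg.Agent.S1367
import Cfsg.Agent.S1372
import Cfsg.Agent.S1374
import Cfsg.Agent.S1375
import Cfsg.Agent.S1431
import Cfsg.Agent.S1432
import Cfsg.Agent.S1435
import Cfsg.Agent.S1437

/-!
The texts of Bender-Glauberman used in `BG76*`, from the proved statements.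
-/

set_option autoImplicit false

namespace Cfsg.Agent.Lib.Helper2.BG76

universe u

theorem tx {G : Type u} [Group G] [Finite G] (hG : Cfsg.IsMinSimpleOddOrder G) : Tx G where
  hG := hG
  t51 := Cfsg.Agent.S1351.result hG
  t52 := Cfsg.Agent.S1352.result hG
  t53 := Cfsg.Agent.S1353.result hG
  t54 := Cfsg.Agent.S1354.result hG
  t60 := Cfsg.Agent.S1360.result hG
  t63 := Cfsg.Agent.S1363.result hG
  t64 := Cfsg.Agent.S1364.result hG
  t65 := Cfsg.Agent.S1365.result hG
  t66 := Cfsg.Agent.S1366.result hG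
  t67 := Cfsg.Agent.S1367.result hG
  t72 := Cfsg.Agent.S1372.result hG
  t74 := Cfsg.Agent.S1374.result hG
  t75 := Cfsg.Agent.S1375.result hG
  t31 := Cfsg.Agent.S1431.result hG
  t32 := Cfsg.Agent.S1432.result hG
  t35 := Cfsg.Agent.S1435.result hG
  t37 := Cfsg.Agent.S1437.result hG

end Cfsg.Agent.Lib.Helper2.BG76
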