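import Cfsg.Agent.Lib.Helper2.BG96D
import Cfsg.Agent.Lib.Helper15.ZJFactBridge
import Cfsg.Agent.Lib.Helper30.PuigTransfer
import Cfsg.Agent.Lib.Helper30.Transitivity4
import Cfsg.Agent.S1457
import Cfsg.Agent.S1396

/-!
Bender-Glauberman Theorem 9.6 (statement S1402): rung R3, part 1 (the Frattini factorization
`H = O_{p'}(H) N_H(T)` with `T = P ∩ O_{p',p}(H) ≥ A`).
-/

set_option autoImplicit false
set_option linter.unusedSectionVars false

namespace Cfsg.Agent.Lib.Helper2.BG96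

open Subgroup Cfsg.Agent.Lib.Helper30 Cfsg.Agent.Lib.Helper28 Cfsg.Agent.Lib.Helper2

universe u

variable {G : Type u} [Group G] [Finite G]

theorem frattini_pPrimePCore {X : Type u} [Group X] [Finite X] {p : ℕ} [Fact p.Prime]
    (P' : Sylow p X) :
    normalizer (((P' : Subgroup X) ⊓ Cfsg.pPrimePCore p X : Subgroup X) : Set X) ⊔
      Cfsg.pPrimeCore p X = ⊤ := by
  have h1 : (Cfsg.pPrimeCore p X).Normal := by
    have := Cfsg.Agent.Lib.Helper14.pPrimeCore_characteristic p X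
    infer_instance
  have h2 : (Cfsg.pCore p (X ⧸ Cfsg.pPrimeCore p X)).Normal := Cfsg.Agent.Lib.Helper51.pCore_normal p
  exact Cfsg.Agent.Lib.Helper15.ZJ.lift_frattini (Cfsg.pPrimeCore p X) P'
    (Cfsg.Agent.Lib.Helper51.pCore_le_sylow p
      (P'.mapSurjective (QuotientGroup.mk'_surjective (Cfsg.pPrimeCore p X))))

theorem exists_T {p : ℕ} [Fact p.Prime] {H P A : Subgroup G} (hsol : Group.IsSolvable H)
    (hodd : Odd (Nat.card H)) (hP : IsSylowIn p P H) (hAP : A ≤ P) (hAc : IsMulCommutative A)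
    (hPA : P ≤ normalizer (A : Set G)) :
    ∃ T : Subgroup G, A ≤ T ∧ T ≤ P ∧ P ≤ normalizer (T : Set G) ∧
      ∀ h ∈ H, ∃ x ∈ opPrimeIn p H, ∃ n ∈ H ⊓ normalizer (T : Set G), h = x * n := by
  obtain ⟨P', hP'⟩ := hP.exists_sylow
  have hYn : (Cfsg.pPrimePCore p H).Normal := Cfsg.Agent.Lib.Helper14.pPrimePCore_normal p H
  have hXn : (Cfsg.pPrimeCore p H).Normal := by
    have := Cfsg.Agent.Lib.Helper14.pPrimeCore_characteristic p H
    infer_instance
  have hmemP : ∀ x : H, x ∈ (P' : Subgroup H) ↔ (x : G) ∈ P := by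
    intro x
    rw [← hP']
    constructor
    · intro hx; exact ⟨x, hx, rfl⟩
    · rintro ⟨y, hy, hyx⟩
      have : y = x := Subtype.ext hyx
      rwa [← this]
  have hA' : A.subgroupOf H ≤ Cfsg.pPrimePCore p H := by
    apply Cfsg.Agent.S1457.result hodd p P' (A.subgroupOf H)
    · intro x hx
      exact (hmemP x).mpr (hAP (mem_subgroupOf.mp hx))
    · refine ⟨⟨fun a b => ?_⟩⟩
      have h1 := hAc.is_comm.comm ⟨(a : H), mem_subgroupOf.mp a.2⟩ ⟨(b : H), mem_subgroupOf.mp b.2⟩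
      have h2 : ((a : H) : G) * ((b : H) : G) = ((b : H) : G) * ((a : H) : G) :=
        congrArg Subtype.val h1
      exact Subtype.ext (Subtype.ext h2)
    · apply le_normalizer_of_conj_mem
      intro x hx a ha
      rw [mem_subgroupOf] at ha ⊢
      exact (mem_normalizer_iff.mp (hPA ((hmemP x).mp hx)) _).mp ha
  refine ⟨((P' : Subgroup H) ⊓ Cfsg.pPrimePCore p H).map H.subtype, ?_, ?_, ?_, ?_⟩
  · intro a ha
    have haH : a ∈ H := hP.le (hAP ha)
    exact ⟨⟨a, haH⟩, mem_inf.mpr ⟨(hmemP _).mpr (hAP ha), hA' (mem_subgroupOf.mpr ha)⟩, rfl⟩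
  · rw [← hP']; exact map_mono inf_le_left
  · apply le_normalizer_of_conj_mem
    rintro x hx _ ⟨t, ht, rfl⟩
    have hxH : x ∈ H := hP.le hx
    have hx' : (⟨x, hxH⟩ : H) ∈ (P' : Subgroup H) := (hmemP _).mpr hx
    rw [SetLike.mem_coe, mem_inf] at ht
    exact ⟨⟨x, hxH⟩ * t * ⟨x, hxH⟩⁻¹,
      mem_inf.mpr ⟨mul_mem (mul_mem hx' ht.1) (inv_mem hx'), hYn.conj_mem t ht.2 _⟩, rfl⟩
  · intro h hh
    have hmem : (⟨h, hh⟩ : H) ∈ Cfsg.pPrimeCore p H ⊔
        normalizer (((P' : Subgroup H) ⊓ Cfsg.pPrimePCore p H : Subgroup H) : Set H) := by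
      rw [sup_comm, frattini_pPrimePCore P']; exact mem_top _
    rw [mem_sup_normal_left] at hmem
    obtain ⟨k, hk, n, hn, hkn⟩ := hmem
    refine ⟨k, mem_map_of_mem _ hk, n, mem_inf.mpr ⟨n.2, ?_⟩, congrArg Subtype.val hkn⟩
    apply mem_normalizer_of_cj_eq
    have h2 := cj_eq_of_mem_normalizer hn
    have h3 := map_cj H.subtype n ((P' : Subgroup H) ⊓ Cfsg.pPrimePCore p H)
    change cj (H.subtype n) _ = _
    rw [← h3]
    exact congrArg _ h2

end Cfsg.Agent.Lib.Helper2.BG96
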