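import Cfsg.Prelude.Def_Transfer
import Mathlib.GroupTheory.Sylow
import Mathlib.GroupTheory.Focal

set_option autoImplicit false

namespace Cfsg.Agent.Lib.Helper2

open Subgroup
open scoped Pointwise

variable {G : Type*} [Group G]

/-- Membership in a conjugate Sylow subgroup, elementwise. -/
lemma mem_smul_sylow_iff {p : ℕ} (h : G) (P : Sylow p G) (z : G) :
    z ∈ h • P ↔ h⁻¹ * z * h ∈ P := by
  have : z ∈ h • P ↔ z ∈ (MulAut.conj h • (P : Subgroup G)) := Iff.rfl
  rw [this, Subgroup.mem_pointwise_smul_iff_inv_smul_mem]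
  simp only [MulAut.smul_def, MulAut.conj_inv_apply]
  exact Iff.rfl

/-- Two `p`-subgroups of `C` can be moved, by conjugating one of them inside `C`, into a common
Sylow `p`-subgroup of `G`. -/
lemma exists_conj_le_sylow [Finite G] {p : ℕ} [Fact p.Prime] (C A B : Subgroup G)
    (hA : A ≤ C) (hB : B ≤ C) (hpA : IsPGroup p A) (hpB : IsPGroup p B) :
    ∃ c ∈ C, ∃ R : Sylow p G, A ≤ R ∧ ∀ b ∈ B, c * b * c⁻¹ ∈ R := by
  have hpA' : IsPGroup p (A.subgroupOf C) := hpA.comap_subtype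
  have hpB' : IsPGroup p (B.subgroupOf C) := hpB.comap_subtype
  obtain ⟨S, hS⟩ := hpA'.exists_le_sylow
  obtain ⟨S', hS'⟩ := hpB'.exists_le_sylow
  obtain ⟨c, hc⟩ := MulAction.exists_smul_eq C S' S
  obtain ⟨R, hR⟩ := (S.2.map C.subtype).exists_le_sylow
  refine ⟨c, c.2, R, ?_, ?_⟩
  · intro a ha
    exact hR ⟨⟨a, hA ha⟩, hS (by simpa [Subgroup.mem_subgroupOf] using ha), rfl⟩
  · intro b hb
    have hb' : (⟨b, hB hb⟩ : C) ∈ S' := hS' (by simpa [Subgroup.mem_subgroupOf] using hb)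
    have : c * ⟨b, hB hb⟩ * c⁻¹ ∈ S := by
      rw [← hc, mem_smul_sylow_iff]
      simpa [mul_assoc] using hb'
    exact hR ⟨_, this, rfl⟩

/-- Elementwise form of weak closure. -/
lemma IsWeaklyClosed.mem_normalizer {W P : Subgroup G} (hW : Cfsg.IsWeaklyClosed W P) (g : G)
    (hg : ∀ z ∈ W, g * z * g⁻¹ ∈ P) : g ∈ normalizer (W : Set G) := by
  have key := hW.2 g (by rintro _ ⟨z, hz, rfl⟩; exact hg z hz)
  rw [mem_normalizer_iff]
  intro h
  constructor
  · intro hh
    rw [← key]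
    exact ⟨h, hh, rfl⟩
  · intro hh
    rw [← key] at hh
    obtain ⟨z, hz, hzz⟩ := hh
    have : z = h := by
      have : g * z * g⁻¹ = g * h * g⁻¹ := hzz
      simpa using this
    exact this ▸ hz

/-- If `Z ≤ Z(P)` is weakly closed in the Sylow subgroup `P`, then `N_G(Z)` controls fusion of
elements of `P`. -/
lemma fusion_of_weaklyClosed [Finite G] {p : ℕ} [Fact p.Prime] (P : Sylow p G) (Z : Subgroup G)
    (hZ : Z ≤ centralizer (P : Set G)) (hW : Cfsg.IsWeaklyClosed Z P) (x u : G) (hx : x ∈ P)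
    (hy : u * x * u⁻¹ ∈ P) : ∃ n ∈ normalizer (Z : Set G), n * x * n⁻¹ = u * x * u⁻¹ := by
  have hpZ : IsPGroup p Z := P.2.to_le hW.1
  set Z' : Subgroup G := Z.map (MulAut.conj u⁻¹).toMonoidHom with hZ'
  have hpZ' : IsPGroup p Z' := hpZ.map _
  have h1 : Z ≤ centralizer {x} := by
    intro z hz
    rw [mem_centralizer_singleton_iff]
    exact (hZ hz x hx).symm
  have h2 : Z' ≤ centralizer {x} := by
    rintro _ ⟨z, hz, rfl⟩
    rw [mem_centralizer_singleton_iff]
    have := hZ hz _ hy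
    simp only [MulEquiv.coe_toMonoidHom, MulAut.conj_apply, inv_inv]
    calc u⁻¹ * z * u * x = u⁻¹ * (z * (u * x * u⁻¹)) * u := by group
      _ = u⁻¹ * ((u * x * u⁻¹) * z) * u := by rw [this]
      _ = x * (u⁻¹ * z * u) := by group
  obtain ⟨c, hc, R, hR1, hR2⟩ := exists_conj_le_sylow (centralizer {x}) Z Z' h1 h2 hpZ hpZ'
  obtain ⟨h, hh⟩ := MulAction.exists_smul_eq G P R
  have n1 : h⁻¹ ∈ normalizer (Z : Set G) := by
    apply IsWeaklyClosed.mem_normalizer hW
    intro z hz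
    have := hR1 hz
    rw [← hh] at this
    have := (mem_smul_sylow_iff h P z).mp this
    change h⁻¹ * z * h⁻¹⁻¹ ∈ P
    simpa using this
  have n2 : h⁻¹ * c * u⁻¹ ∈ normalizer (Z : Set G) := by
    apply IsWeaklyClosed.mem_normalizer hW
    intro z hz
    have := hR2 (u⁻¹ * z * u) ⟨z, hz, by simp⟩
    rw [← hh] at this
    have := (mem_smul_sylow_iff h P _).mp this
    change h⁻¹ * c * u⁻¹ * z * (h⁻¹ * c * u⁻¹)⁻¹ ∈ P
    convert this using 1
    group
  refine ⟨u * c⁻¹, ?_, ?_⟩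
  · have := (normalizer (Z : Set G)).mul_mem (inv_mem n2) n1
    convert this using 1
    group
  · rw [mem_centralizer_singleton_iff] at hc
    calc u * c⁻¹ * x * (u * c⁻¹)⁻¹ = u * (c⁻¹ * (x * c)) * u⁻¹ := by group
      _ = u * (c⁻¹ * (c * x)) * u⁻¹ := by rw [hc]
      _ = u * x * u⁻¹ := by group

open scoped commutatorElement in
/-- If `N ≥ P` controls fusion of elements of the Sylow subgroup `P`, then `G' ∩ P = N' ∩ P`. -/
lemma commutator_inf_eq_of_controls_fusion [Finite G] {p : ℕ} [Fact p.Prime] (P : Sylow p G)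
    (N : Subgroup G) (hPN : (P : Subgroup G) ≤ N)
    (hfus : ∀ x u : G, x ∈ P → u * x * u⁻¹ ∈ P → ∃ n ∈ N, n * x * n⁻¹ = u * x * u⁻¹) :
    commutator G ⊓ (P : Subgroup G) = ⁅N, N⁆ ⊓ (P : Subgroup G) := by
  apply le_antisymm
  · rw [Subgroup.commutator_inf_eq_focalSubgroup]
    refine le_inf ?_ (Subgroup.focalSubgroup_le _)
    rw [Subgroup.focalSubgroup_def, Subgroup.closure_le]
    rintro g ⟨hgP, x, hx, u, rfl⟩
    have hy : u * x * u⁻¹ ∈ P := by
      have : u * x * u⁻¹ = (x⁻¹ * ⁅x, u⁆)⁻¹ := by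
        rw [commutatorElement_def]; group
      rw [this]
      exact inv_mem (mul_mem (inv_mem hx) hgP)
    obtain ⟨n, hn, hnx⟩ := hfus x u hx hy
    have : ⁅x, u⁆ = ⁅x, n⁆ := by
      rw [commutatorElement_def, commutatorElement_def]
      calc x * u * x⁻¹ * u⁻¹ = x * (u * x * u⁻¹)⁻¹ := by group
        _ = x * (n * x * n⁻¹)⁻¹ := by rw [hnx]
        _ = _ := by group
    rw [SetLike.mem_coe, this]
    exact Subgroup.commutator_mem_commutator (hPN hx) hn
  · exact inf_le_inf_right _ (Subgroup.commutator_mono le_top le_top)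

end Cfsg.Agent.Lib.Helper2
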