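import Cfsg.Agent.Lib.Helper2.PResidual
import Mathlib.GroupTheory.Focal
import Mathlib.GroupTheory.Nilpotent
import Mathlib.GroupTheory.Abelianization.Defs

set_option autoImplicit false

namespace Cfsg.Agent.Lib.Helper2

open Subgroup

variable {G : Type*} [Group G]

lemma relIndex_dvd_index_of_normal_right [Finite G] (P K : Subgroup G) [K.Normal] :
    P.relIndex K ∣ P.index := by
  have e1 : K.relIndex P * P.index = (P ⊓ K).index := by
    rw [← inf_relIndex_left P K]; exact relIndex_mul_index inf_le_left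
  have e2 : P.relIndex K * K.index = (P ⊓ K).index := by
    rw [← inf_relIndex_right P K]; exact relIndex_mul_index inf_le_right
  obtain ⟨c, hc⟩ := relIndex_dvd_index_of_normal K P
  refine ⟨c, ?_⟩
  have hpos : 0 < K.relIndex P := Nat.pos_of_ne_zero (by
    unfold relIndex; exact FiniteIndex.index_ne_zero)
  apply Nat.eq_of_mul_eq_mul_left hpos
  rw [e1, ← e2, hc]; ring

/-- The intersection of a Sylow subgroup with a normal subgroup `K`, as a Sylow subgroup of `K`. -/
noncomputable def sylowInfNormal [Finite G] {p : ℕ} [Fact p.Prime] (P : Sylow p G)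
    (K : Subgroup G) [K.Normal] : Sylow p K :=
  (P.2.comap_subtype (K := K)).toSylow (fun h =>
    P.not_dvd_index (h.trans (relIndex_dvd_index_of_normal_right (P : Subgroup G) K)))

lemma coe_sylowInfNormal [Finite G] {p : ℕ} [Fact p.Prime] (P : Sylow p G)
    (K : Subgroup G) [K.Normal] :
    (sylowInfNormal P K : Subgroup K) = (P : Subgroup G).subgroupOf K := rfl

/-- If `O^p(H) = H` then every Sylow `p`-subgroup lies in the derived subgroup. -/
lemma sylow_le_commutator_of_pResidual_eq_top {H : Type*} [Group H] [Finite H] {p : ℕ}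
    [Fact p.Prime] (h : Cfsg.pResidual p H = ⊤) (Q : Sylow p H) :
    (Q : Subgroup H) ≤ commutator H := by
  have hp : p.Prime := Fact.out
  set m := (Q : Subgroup H).index with hm
  obtain ⟨k, hk⟩ := Q.2.exists_card_eq
  have hmp : Nat.Coprime m p := ((Nat.Prime.coprime_iff_not_dvd hp).mpr Q.not_dvd_index).symm
  let ψ : H →* Abelianization H := (powMonoidHom m).comp Abelianization.of
  have hψ : ψ.ker = ⊤ := by
    rw [eq_top_iff, ← h]
    unfold Cfsg.pResidual
    rw [closure_le]
    intro x hx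
    have hx' : Nat.Coprime (orderOf x) p := hx
    have h1 : orderOf x ∣ Nat.card Q * m := by
      rw [hm, (Q : Subgroup H).card_mul_index]; exact orderOf_dvd_natCard x
    rw [hk] at h1
    have h2 : orderOf x ∣ m := (Nat.Coprime.dvd_mul_left (Nat.Coprime.pow_right k hx')).mp h1
    have h3 : x ^ m = 1 := orderOf_dvd_iff_pow_eq_one.mp h2
    change (Abelianization.of x) ^ m = 1
    rw [← map_pow, h3, map_one]
  intro x hx
  rw [← Abelianization.ker_of, MonoidHom.mem_ker]
  have h1 : (Abelianization.of x) ^ m = 1 := by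
    have : x ∈ ψ.ker := by rw [hψ]; trivial
    exact this
  have h2 : (Abelianization.of x) ^ (p ^ k) = 1 := by
    have : (⟨x, hx⟩ : (Q : Subgroup H)) ^ (p ^ k) = 1 := by rw [← hk]; exact pow_card_eq_one'
    have h3 : x ^ (p ^ k) = 1 := congrArg Subtype.val this
    rw [← map_pow, h3, map_one]
  have h4 : orderOf (Abelianization.of x) = 1 :=
    Nat.eq_one_of_dvd_coprimes (Nat.Coprime.pow_right k hmp) (orderOf_dvd_of_pow_eq_one h1)
      (orderOf_dvd_of_pow_eq_one h2)
  exact orderOf_eq_one_iff.mp h4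

lemma le_normalizer_sup {H A B : Subgroup G} (hA : H ≤ normalizer (A : Set G))
    (hB : H ≤ normalizer (B : Set G)) : H ≤ normalizer ((A ⊔ B : Subgroup G) : Set G) := by
  intro h hh
  rw [mem_normalizer_iff_map_conj_eq, Subgroup.map_sup, mem_normalizer_iff_map_conj_eq.mp (hA hh),
    mem_normalizer_iff_map_conj_eq.mp (hB hh)]

lemma le_normalizer_inf {H A B : Subgroup G} (hA : H ≤ normalizer (A : Set G))
    (hB : H ≤ normalizer (B : Set G)) : H ≤ normalizer ((A ⊓ B : Subgroup G) : Set G) := by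
  intro h hh
  rw [mem_normalizer_iff]
  intro x
  rw [mem_inf, mem_inf, mem_normalizer_iff.mp (hA hh) x, mem_normalizer_iff.mp (hB hh) x]

open scoped commutatorElement in
lemma commutator_sup_le {A B C M : Subgroup G} (hA : ⁅A, C⁆ ≤ M) (hB : ⁅B, C⁆ ≤ M)
    (hN : A ⊔ B ≤ normalizer (M : Set G)) : ⁅A ⊔ B, C⁆ ≤ M := by
  rw [commutator_le]
  intro x hx c hc
  rw [sup_eq_closure] at hx
  induction hx using closure_induction with
  | mem y hy =>
    rcases hy with hy | hy
    · exact hA (commutator_mem_commutator hy hc)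
    · exact hB (commutator_mem_commutator hy hc)
  | one => simp
  | mul y z hy hz ihy ihz =>
    have e : ⁅y * z, c⁆ = y * ⁅z, c⁆ * y⁻¹ * ⁅y, c⁆ := by
      simp only [commutatorElement_def]; group
    rw [e]
    have hyN : y ∈ normalizer (M : Set G) := hN (by rw [sup_eq_closure]; exact hy)
    exact mul_mem ((mem_normalizer_iff.mp hyN _).mp ihz) ihy
  | inv y hy ihy =>
    have e : ⁅y⁻¹, c⁆ = y⁻¹ * ⁅y, c⁆⁻¹ * y⁻¹⁻¹ := by
      simp only [commutatorElement_def]; group
    rw [e]
    have hyN : y⁻¹ ∈ normalizer (M : Set G) := inv_mem (hN (by rw [sup_eq_closure]; exact hy))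
    exact (mem_normalizer_iff.mp hyN _).mp (inv_mem ihy)

open scoped commutatorElement in
/-- **Control of fusion determines the hyperfocal subgroup.** If `P ≤ V ≤ G`, `P` Sylow, and `V`
controls `G`-fusion of elements of `P`, then `P ∩ O^p(G) = P ∩ O^p(V)`. -/
theorem inf_pResidual_eq_of_controls_fusion [Finite G] {p : ℕ} [Fact p.Prime] (P : Sylow p G)
    (V : Subgroup G) (hPV : (P : Subgroup G) ≤ V)
    (hfus : ∀ x u : G, x ∈ (P : Subgroup G) → u * x * u⁻¹ ∈ (P : Subgroup G) →
      ∃ v ∈ V, v * x * v⁻¹ = u * x * u⁻¹) :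
    (P : Subgroup G) ⊓ Cfsg.pResidual p G =
      (P : Subgroup G) ⊓ (Cfsg.pResidual p V).map V.subtype := by
  set K := Cfsg.pResidual p G with hK
  set W := (Cfsg.pResidual p V).map V.subtype with hW
  set Q0 := (P : Subgroup G) ⊓ W with hQ0
  have hWV : W ≤ V := map_subtype_le _
  have hW2 : V ≤ normalizer (W : Set G) := by
    have hn : (Cfsg.pResidual p V).Normal := inferInstance
    have := le_normalizer_map (H := Cfsg.pResidual p V) V.subtype
    rw [normalizer_eq_top, ← MonoidHom.range_eq_map, range_subtype] at this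
    exact this
  have hW3 : ∀ v ∈ V, ∃ w ∈ W, ∃ y ∈ (P : Subgroup G), v = w * y := by
    intro v hv
    obtain ⟨w, hw, y, hy, e⟩ := exists_mul_of_sylow_pResidual (P.subtype hPV) ⟨v, hv⟩
    refine ⟨w, ⟨w, hw, rfl⟩, y, ?_, congrArg Subtype.val e⟩
    rw [Sylow.coe_subtype, mem_subgroupOf] at hy
    exact hy
  apply le_antisymm
  swap
  · exact inf_le_inf_left _ (map_pResidual_subtype_le p V)
  have hPQ0 : (P : Subgroup G) ≤ normalizer (Q0 : Set G) :=
    le_normalizer_inf le_normalizer (hPV.trans hW2)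
  let QK : Sylow p K := sylowInfNormal P K
  have hQK : (QK : Subgroup K) = (P : Subgroup G).subgroupOf K := rfl
  have h5 : (QK : Subgroup K) ≤ (QK : Subgroup K).focalSubgroup := by
    rw [← commutator_inf_eq_focalSubgroup]
    exact le_inf (sylow_le_commutator_of_pResidual_eq_top (pResidual_pResidual p) QK) le_rfl
  have claim : ∀ i : ℕ, (P : Subgroup G) ⊓ K ≤ Q0 ⊔ (P : Subgroup G).lowerCentralSeries i := by
    intro i
    induction i with
    | zero => exact inf_le_left.trans le_sup_right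
    | succ i ih =>
      set M := Q0 ⊔ (P : Subgroup G).lowerCentralSeries (i + 1) with hM
      have hPM : (P : Subgroup G) ≤ normalizer (M : Set G) :=
        le_normalizer_sup hPQ0 ((P : Subgroup G).self_le_normalizer_lowerCentralSeries (i + 1))
      have hcomm : ⁅Q0 ⊔ (P : Subgroup G).lowerCentralSeries i, (P : Subgroup G)⁆ ≤ M := by
        apply commutator_sup_le
        · exact (le_normalizer_iff_commutator_le_left.mp hPQ0).trans le_sup_left
        · rw [← Subgroup.lowerCentralSeries_succ]; exact le_sup_right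
        · exact (sup_le inf_le_left ((P : Subgroup G).lowerCentralSeries_le_self i)).trans hPM
      rw [← subgroupOf_map_subtype, ← hQK]
      refine (map_mono h5).trans ?_
      rw [focalSubgroup_def, MonoidHom.map_closure, closure_le]
      rintro _ ⟨g, ⟨hgQ, x, hx, u, rfl⟩, rfl⟩
      rw [hQK, mem_subgroupOf] at hgQ hx
      obtain ⟨x, hxK⟩ := x
      obtain ⟨u, huK⟩ := u
      simp only [subtype_apply] at hgQ hx ⊢
      have hc : ((⁅(⟨x, hxK⟩ : K), ⟨u, huK⟩⁆ : K) : G) = ⁅x, u⁆ := by
        simp [commutatorElement_def]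
      rw [hc] at hgQ ⊢
      have hy : u * x * u⁻¹ ∈ (P : Subgroup G) := by
        have : u * x * u⁻¹ = (x⁻¹ * ⁅x, u⁆)⁻¹ := by
          rw [commutatorElement_def]; group
        rw [this]
        exact inv_mem (mul_mem (inv_mem hx) hgQ)
      obtain ⟨v, hv, hvx⟩ := hfus x u hx hy
      obtain ⟨w, hw, y, hyP, rfl⟩ := hW3 v hv
      have e1 : ⁅x, u⁆ = x * (w * y) * x⁻¹ * (w * y)⁻¹ := by
        rw [commutatorElement_def]
        calc x * u * x⁻¹ * u⁻¹ = x * (u * x * u⁻¹)⁻¹ := by group
          _ = x * (w * y * x * (w * y)⁻¹)⁻¹ := by rw [hvx]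
          _ = _ := by group
      have hxy : ⁅x, y⁆ ∈ M :=
        hcomm (commutator_mem_commutator (ih (mem_inf.mpr ⟨hx, hxK⟩)) hyP)
      have hxyP : ⁅x, y⁆ ∈ (P : Subgroup G) := by
        rw [commutatorElement_def]
        exact mul_mem (mul_mem (mul_mem hx hyP) (inv_mem hx)) (inv_mem hyP)
      have e2 : ⁅x, y⁆⁻¹ * ⁅x, u⁆ = ((y * x * y⁻¹) * w * (y * x * y⁻¹)⁻¹) * w⁻¹ := by
        rw [e1, commutatorElement_def]; group
      have hw2W : ⁅x, y⁆⁻¹ * ⁅x, u⁆ ∈ W := by
        rw [e2]
        have ht : y * x * y⁻¹ ∈ V := hPV (mul_mem (mul_mem hyP hx) (inv_mem hyP))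
        exact mul_mem ((mem_normalizer_iff.mp (hW2 ht) w).mp hw) (inv_mem hw)
      have hw2P : ⁅x, y⁆⁻¹ * ⁅x, u⁆ ∈ (P : Subgroup G) := mul_mem (inv_mem hxyP) hgQ
      have e3 : ⁅x, u⁆ = ⁅x, y⁆ * (⁅x, y⁆⁻¹ * ⁅x, u⁆) := by group
      rw [SetLike.mem_coe, e3]
      exact mul_mem hxy (mem_sup_left (mem_inf.mpr ⟨hw2P, hw2W⟩))
  have hnil : Group.IsNilpotent (P : Subgroup G) := P.2.isNilpotent
  obtain ⟨n, hn⟩ := (isNilpotent_iff_lowerCentralSeries (P : Subgroup G)).mp hnil
  have := claim n
  rw [hn, sup_bot_eq] at this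
  exact this

/-- If a Sylow `p`-subgroup controls its own fusion then `G` has a normal `p`-complement. -/
theorem hasNormalPComplement_of_controls_own_fusion [Finite G] {p : ℕ} [Fact p.Prime]
    (P : Sylow p G)
    (hfus : ∀ x u : G, x ∈ (P : Subgroup G) → u * x * u⁻¹ ∈ (P : Subgroup G) →
      ∃ v ∈ (P : Subgroup G), v * x * v⁻¹ = u * x * u⁻¹) :
    Cfsg.HasNormalPComplement p G := by
  rw [hasNormalPComplement_iff_inf_pResidual P,
    inf_pResidual_eq_of_controls_fusion P (P : Subgroup G) le_rfl hfus]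
  have h1 : Cfsg.pResidual p (P : Subgroup G) = ⊥ := by
    unfold Cfsg.pResidual
    rw [closure_eq_bot_iff]
    intro x hx
    have hx' : Nat.Coprime (orderOf x) p := hx
    obtain ⟨k, hk⟩ := P.2 x
    have h2 : orderOf x ∣ p ^ k := orderOf_dvd_of_pow_eq_one hk
    have h3 : orderOf x = 1 :=
      Nat.eq_one_of_dvd_coprimes (Nat.Coprime.pow_right k hx') dvd_rfl h2
    exact orderOf_eq_one_iff.mp h3
  rw [h1, Subgroup.map_bot, inf_bot_eq]

end Cfsg.Agent.Lib.Helper2
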