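import Mathlib.GroupTheory.Solvable
import Mathlib.GroupTheory.Sylow
import Mathlib.GroupTheory.Nilpotent
import Mathlib.GroupTheory.Index
import Mathlib.Tactic.Group

set_option autoImplicit false

namespace Cfsg.Agent.Lib.Helper2

open Subgroup

variable {G : Type*} [Group G]

/-- A nontrivial solvable group has a nontrivial characteristic abelian subgroup. -/
lemma exists_characteristic_abelian_of_solvable [Group.IsSolvable G] [Nontrivial G] :
    ∃ A : Subgroup G, A.Characteristic ∧ A ≠ ⊥ ∧ IsMulCommutative A := by
  obtain ⟨n, hn⟩ := (inferInstance : Group.IsSolvable G).solvable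
  have key : ∀ n, derivedSeries G n = ⊥ →
      ∃ m, derivedSeries G m ≠ ⊥ ∧ derivedSeries G (m + 1) = ⊥ := by
    intro n
    induction n with
    | zero =>
      intro h
      rw [derivedSeries_zero] at h
      exact absurd h top_ne_bot
    | succ n ih =>
      intro h
      by_cases hn : derivedSeries G n = ⊥
      · exact ih hn
      · exact ⟨n, hn, h⟩
  obtain ⟨m, hm1, hm2⟩ := key n hn
  refine ⟨derivedSeries G m, inferInstance, hm1, ?_⟩
  rw [derivedSeries_succ] at hm2
  exact commutator_self_eq_bot_iff.mp hm2

/-- A nontrivial finite solvable group has a nontrivial characteristic abelian `p`-subgroup. -/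
lemma exists_characteristic_pgroup_of_solvable [Finite G] [Group.IsSolvable G] [Nontrivial G] :
    ∃ (p : ℕ) (N : Subgroup G), p.Prime ∧ N.Characteristic ∧ N ≠ ⊥ ∧ IsPGroup p N ∧
      IsMulCommutative N := by
  obtain ⟨A, hAc, hAne, hAcomm⟩ := exists_characteristic_abelian_of_solvable (G := G)
  have hcard : Nat.card A ≠ 1 := by
    intro h
    exact hAne (A.card_eq_one.mp h)
  set p := (Nat.card A).minFac with hp
  have hpp : p.Prime := Nat.minFac_prime hcard
  have : Fact p.Prime := ⟨hpp⟩
  obtain ⟨P⟩ : Nonempty (Sylow p A) := inferInstance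
  have hPn : (P : Subgroup A).Normal := by
    constructor
    intro x hx g
    have : g * x * g⁻¹ = x := by rw [mul_comm' g x]; group
    rw [this]; exact hx
  have hPc : (P : Subgroup A).Characteristic := Sylow.characteristic_of_normal P hPn
  refine ⟨p, (P : Subgroup A).map A.subtype, hpp, inferInstance, ?_, P.2.map _, ?_⟩
  · intro h
    have h1 : (P : Subgroup A) = ⊥ := by
      rw [← map_subtype_inj, h, Subgroup.map_bot]
    exact P.ne_bot_of_dvd_card (Nat.minFac_dvd _) h1
  · refine ⟨⟨?_⟩⟩
    rintro ⟨_, ⟨x, hx, rfl⟩⟩ ⟨_, ⟨y, hy, rfl⟩⟩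
    apply Subtype.ext
    exact congrArg (Subtype.val : A → G) (mul_comm' x y)

/-- The image of a maximal subgroup containing the kernel is maximal. -/
lemma isCoatom_map_of_surjective {H : Type*} [Group H] {f : G →* H} (hf : Function.Surjective f)
    {M : Subgroup G} (hM : IsCoatom M) (hker : f.ker ≤ M) : IsCoatom (M.map f) := by
  constructor
  · intro h
    apply hM.1
    rw [← comap_map_eq_self hker, h, comap_top]
  · intro K hK
    have h1 : M < K.comap f := by
      rw [← comap_map_eq_self hker]
      exact comap_lt_comap_of_surjective hf |>.mpr hK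
    have h2 := hM.2 _ h1
    rw [← map_comap_eq_self_of_surjective hf K, h2, map_top_of_surjective f hf]

/-- If `M ⊔ N = ⊤` with `N` normal then the index of `M` divides the order of `N`. -/
lemma index_dvd_card_of_sup_eq_top [Finite G] {M N : Subgroup G} [N.Normal] (h : M ⊔ N = ⊤) :
    M.index ∣ Nat.card N := by
  have h1 : N.relIndex M = N.index := by
    rw [← relIndex_sup_right, h, relIndex_top_right]
  obtain ⟨c, hc⟩ : N.relIndex M ∣ Nat.card M := relIndex_dvd_card N M
  have h3 := M.index_mul_card
  have h4 := N.index_mul_card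
  rw [h1] at hc
  rw [hc, ← h4] at h3
  have hpos : 0 < N.index := Nat.pos_of_ne_zero (FiniteIndex.index_ne_zero)
  refine ⟨c, ?_⟩
  apply Nat.eq_of_mul_eq_mul_left hpos
  rw [← h3]
  ring

end Cfsg.Agent.Lib.Helper2
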