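import Cfsg.Agent.Lib.Helper2.Hyperfocal
import Cfsg.Agent.Lib.Helper2.Gaschutz
import Mathlib.GroupTheory.Frattini
import Mathlib.Algebra.Group.Subgroup.Finite
import Mathlib.Tactic.Group

set_option autoImplicit false

namespace Cfsg.Agent.Lib.Helper2

open Subgroup

/-- A "`Q`-part" function for left cosets of `Q`. -/
lemma exists_tau {K : Type*} [Group K] (Q : Subgroup K) :
    ∃ τ : K → Q, ∀ (k : K) (q : Q), τ (k * q) = τ k * q := by
  have h : ∀ k : K, (k : K ⧸ Q).out⁻¹ * k ∈ Q := by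
    intro k
    rw [← QuotientGroup.eq]
    exact QuotientGroup.out_eq' _
  refine ⟨fun k => ⟨(k : K ⧸ Q).out⁻¹ * k, h k⟩, ?_⟩
  intro k q
  apply Subtype.ext
  change ((k * q : K) : K ⧸ Q).out⁻¹ * (k * q) = (k : K ⧸ Q).out⁻¹ * k * q
  rw [QuotientGroup.mk_mul_of_mem k q.2, mul_assoc]

/-- The twisted transfer on the (formal) semidirect product `K ⋊ Pt`. -/
theorem exists_twisted_transfer {K Pt A : Type*} [Group K] [Finite K] [Group Pt] [CommGroup A]
    (Q : Subgroup K) (c : Pt →* MulAut K) (hc : ∀ u, ∀ q ∈ Q, c u q ∈ Q) (ϕ : Q →* A)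
    (hϕ : ∀ u (q : Q), ϕ ⟨c u q, hc u q q.2⟩ = ϕ q) :
    ∃ W : K → Pt → A,
      (∀ x u, W x u ∈ ϕ.range) ∧
      (∀ x u x' u', W x u * W x' u' = W (x * c u x') (u * u')) ∧
      (∀ (q : Q) (u : Pt), (∀ k, c u k = q * k * (q : K)⁻¹) →
        W (q : K)⁻¹ u = (ϕ q⁻¹) ^ Q.index) := by
  classical
  obtain ⟨τ, hτ⟩ := exists_tau Q
  obtain ⟨cQ, hcQ⟩ : ∃ cQ : Pt → Q → Q, ∀ u q, ((cQ u q : Q) : K) = c u q :=
    ⟨fun u q => ⟨c u q, hc u q q.2⟩, fun _ _ => rfl⟩
  have hϕ' : ∀ u q, ϕ (cQ u q) = ϕ q := by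
    intro u q
    rw [← hϕ u q]
    congr 1
    exact Subtype.ext (hcQ u q)
  have cQ_mul : ∀ u q q', cQ u (q * q') = cQ u q * cQ u q' := by
    intro u q q'
    apply Subtype.ext
    rw [coe_mul, hcQ, hcQ, hcQ, coe_mul, map_mul]
  have cQ_inv : ∀ u q, cQ u q⁻¹ = (cQ u q)⁻¹ := by
    intro u q
    apply Subtype.ext
    rw [coe_inv, hcQ, hcQ, coe_inv, map_inv]
  have cQ_cQ : ∀ u u' q, cQ u (cQ u' q) = cQ (u * u') q := by
    intro u u' q
    apply Subtype.ext
    rw [hcQ, hcQ, hcQ, map_mul]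
    rfl
  obtain ⟨D, hD⟩ : ∃ D : K → Pt → K → Q, ∀ x u k, D x u k = τ (x * c u k) * (cQ u (τ k))⁻¹ :=
    ⟨_, fun _ _ _ => rfl⟩
  have Dinv : ∀ x u k (q : Q), D x u (k * q) = D x u k := by
    intro x u k q
    rw [hD, hD, map_mul, ← mul_assoc, ← hcQ u q, hτ, hτ, cQ_mul, mul_inv_rev, mul_assoc,
      mul_inv_cancel_left]
  have Dout : ∀ x u (k : K), D x u (k : K ⧸ Q).out = D x u k := by
    intro x u k
    obtain ⟨q, hq⟩ := QuotientGroup.mk_out_eq_mul Q k
    rw [hq, Dinv]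
  have Dmul : ∀ x u x' u' k, D (x * c u x') (u * u') k =
      D x u (x' * c u' k) * cQ u (D x' u' k) := by
    intro x u x' u' k
    have e : x * c u x' * c (u * u') k = x * c u (x' * c u' k) := by
      rw [map_mul, map_mul, mul_assoc]
      rfl
    rw [hD, hD, hD, cQ_mul, cQ_inv, cQ_cQ, e, mul_assoc (τ _), inv_mul_cancel_left]
  have : Fintype (K ⧸ Q) := Fintype.ofFinite _
  refine ⟨fun x u => ∏ q : K ⧸ Q, ϕ (D x u q.out), ?_, ?_, ?_⟩
  · intro x u
    exact Subgroup.prod_mem _ (fun q _ => ⟨_, rfl⟩)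
  · intro x u x' u'
    simp only [Dmul, map_mul, hϕ']
    rw [Finset.prod_mul_distrib]
    congr 1
    symm
    let σ : K ⧸ Q → K ⧸ Q := fun q => ((x' * c u' q.out : K) : K ⧸ Q)
    have hσ : Function.Injective σ := by
      intro a b hab
      have h1 : (x' * c u' a.out)⁻¹ * (x' * c u' b.out) ∈ Q := QuotientGroup.eq.mp hab
      have h2 : (x' * c u' a.out)⁻¹ * (x' * c u' b.out) = c u' (a.out⁻¹ * b.out) := by
        rw [map_mul, map_inv]; group
      rw [h2] at h1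
      have h3 : a.out⁻¹ * b.out ∈ Q := by
        have := hc u'⁻¹ _ h1
        rw [map_inv] at this
        simpa using this
      rw [← QuotientGroup.out_eq' a, ← QuotientGroup.out_eq' b]
      exact QuotientGroup.eq.mpr h3
    have hσb : Function.Bijective σ := Finite.injective_iff_bijective.mp hσ
    refine Fintype.prod_bijective σ hσb _ _ (fun q => ?_)
    rw [Dout]
  · intro q u hu
    have h1 : ∀ k, D (q : K)⁻¹ u k = q⁻¹ := by
      intro k
      have e1 : (q : K)⁻¹ * c u k = k * ((q⁻¹ : Q) : K) := by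
        rw [hu, coe_inv]; group
      have e2 : cQ u (τ k) = q * τ k * q⁻¹ := by
        apply Subtype.ext
        rw [hcQ, hu]
        rfl
      rw [hD, e1, hτ, e2]
      group
    simp only [h1, Finset.prod_const, Finset.card_univ]
    rw [index, Nat.card_eq_fintype_card]

lemma pResidual_le_ker_of_isPGroup {G H : Type*} [Group G] [Group H] {p : ℕ} (f : G →* H)
    (hH : IsPGroup p H) : Cfsg.pResidual p G ≤ f.ker := by
  unfold Cfsg.pResidual
  rw [Subgroup.closure_le]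
  intro x hx
  have hx' : Nat.Coprime (orderOf x) p := hx
  obtain ⟨k, hk⟩ := hH (f x)
  have h1 : orderOf (f x) ∣ p ^ k := orderOf_dvd_of_pow_eq_one hk
  have h2 : orderOf (f x) ∣ orderOf x := orderOf_map_dvd f x
  have h3 : orderOf (f x) = 1 := Nat.eq_one_of_dvd_coprimes (Nat.Coprime.pow_right k hx') h2 h1
  exact orderOf_eq_one_iff.mp h3

/-- In a nilpotent group, `Q ≤ [Q, G]` forces `Q = 1`. -/
lemma eq_bot_of_le_commutator_top {H : Type*} [Group H] [Group.IsNilpotent H] (Q : Subgroup H)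
    (h : Q ≤ ⁅Q, (⊤ : Subgroup H)⁆) : Q = ⊥ := by
  obtain ⟨n, hn⟩ := Subgroup.nilpotent_iff_lowerCentralSeries.mp
    (inferInstance : Group.IsNilpotent H)
  have key : ∀ i, Q ≤ (⊤ : Subgroup H).lowerCentralSeries i := by
    intro i
    induction i with
    | zero => simp
    | succ i ih =>
      refine h.trans ?_
      exact Subgroup.commutator_mono ih le_rfl
  rw [eq_bot_iff, ← hn]
  exact key n

open scoped commutatorElement IsMulCommutative in
/-- Core of Tate's theorem: if `K ⊴ G` has `O^p(K) = K` and `K ∩ P ≤ Φ(P)` then `K ∩ P = 1`. -/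
theorem tate_core {G : Type*} [Group G] [Finite G] {p : ℕ} [Fact p.Prime] (P : Sylow p G)
    (K : Subgroup G) [K.Normal] (hK : Cfsg.pResidual p K = ⊤)
    (h : K.subgroupOf (P : Subgroup G) ≤ frattini (P : Subgroup G)) :
    K.subgroupOf (P : Subgroup G) = ⊥ := by
  have hp : p.Prime := Fact.out
  have hnil : Group.IsNilpotent (P : Subgroup G) := P.2.isNilpotent
  apply eq_bot_of_le_commutator_top
  set Q' : Subgroup (P : Subgroup G) := K.subgroupOf (P : Subgroup G) with hQ'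
  set M' : Subgroup (P : Subgroup G) := ⁅Q', (⊤ : Subgroup (P : Subgroup G))⁆ with hM'
  have hM'n : M'.Normal := by rw [hM']; infer_instance
  set Qk : Subgroup K := (P : Subgroup G).subgroupOf K with hQk
  -- inclusion of `Qk` in `P`
  obtain ⟨ι, hι⟩ : ∃ ι : Qk →* (P : Subgroup G), ∀ q : Qk, ((ι q : (P : Subgroup G)) : G) = q.1.1 :=
    ⟨((K.subtype).comp Qk.subtype).codRestrict (P : Subgroup G) (fun q => q.2), fun _ => rfl⟩
  have hιQ : ∀ q : Qk, ι q ∈ Q' := by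
    intro q
    rw [hQ', mem_subgroupOf, hι]
    exact q.1.2
  have hcent : ∀ q : Qk, (QuotientGroup.mk' M' (ι q)) ∈ center ((P : Subgroup G) ⧸ M') := by
    intro q
    rw [mem_center_iff]
    intro b
    obtain ⟨u, rfl⟩ := QuotientGroup.mk'_surjective M' b
    rw [← map_mul, ← map_mul]
    apply (QuotientGroup.eq).mpr
    have : (u * ι q)⁻¹ * (ι q * u) = ⁅(ι q)⁻¹, u⁻¹⁆ := by
      rw [commutatorElement_def]; group
    rw [this]
    exact commutator_mem_commutator (inv_mem (hιQ q)) (mem_top _)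
  obtain ⟨ϕ, hϕ⟩ : ∃ ϕ : Qk →* center ((P : Subgroup G) ⧸ M'),
      ∀ q, ((ϕ q : center ((P : Subgroup G) ⧸ M')) : (P : Subgroup G) ⧸ M') =
        QuotientGroup.mk' M' (ι q) :=
    ⟨((QuotientGroup.mk' M').comp ι).codRestrict _ hcent, fun _ => rfl⟩
  obtain ⟨c, hc⟩ : ∃ c : (P : Subgroup G) →* MulAut K, ∀ (u : (P : Subgroup G)) (k : K),
      ((c u k : K) : G) = u * k * (u : G)⁻¹ :=
    ⟨(MulAut.conjNormal).comp (P : Subgroup G).subtype, fun _ _ => rfl⟩
  have hcQ : ∀ u, ∀ q ∈ Qk, c u q ∈ Qk := by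
    intro u q hq
    rw [hQk, mem_subgroupOf, hc]
    exact mul_mem (mul_mem u.2 hq) (inv_mem u.2)
  have hϕc : ∀ u (q : Qk), ϕ ⟨c u q, hcQ u q q.2⟩ = ϕ q := by
    intro u q
    apply Subtype.ext
    rw [hϕ, hϕ]
    have e : ι ⟨c u q, hcQ u q q.2⟩ = u * ι q * u⁻¹ := by
      apply Subtype.ext
      rw [hι, coe_mul, coe_mul, hι, coe_inv]
      exact hc u q
    rw [e, map_mul, map_mul, map_inv]
    have := mem_center_iff.mp (hcent q) (QuotientGroup.mk' M' u)
    rw [this, mul_inv_cancel_right]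
  obtain ⟨W, Wrange, Wmul, Wq⟩ := exists_twisted_transfer (A := center ((P : Subgroup G) ⧸ M')) Qk c hcQ ϕ hϕc
  have hA : IsPGroup p (center ((P : Subgroup G) ⧸ M')) := (P.2.to_quotient M').to_subgroup _
  have hV : ∀ x, W x 1 = 1 := by
    let V : K →* center ((P : Subgroup G) ⧸ M') :=
      MonoidHom.mk' (fun x => W x 1) (by intro x x'; rw [Wmul]; simp)
    have hle := pResidual_le_ker_of_isPGroup V hA
    rw [hK] at hle
    intro x
    exact hle (mem_top x)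
  have hW : ∀ x u, W x u = W 1 u := by
    intro x u
    have := Wmul x 1 1 u
    rw [hV, one_mul] at this
    rw [this]
    simp
  obtain ⟨Ψ, hΨ⟩ : ∃ Ψ : (P : Subgroup G) →* center ((P : Subgroup G) ⧸ M'), ∀ u, Ψ u = W 1 u :=
    ⟨MonoidHom.mk' (fun u => W 1 u) (by intro u u'; rw [Wmul]; simp), fun _ => rfl⟩
  have hnd : ¬ p ∣ Qk.index := (sylowInfNormal P K).not_dvd_index
  obtain ⟨k, hk⟩ := hA.exists_card_eq
  have hcop : (Nat.card (center ((P : Subgroup G) ⧸ M'))).Coprime Qk.index := by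
    rw [hk]
    exact Nat.Coprime.pow_left k ((Nat.Prime.coprime_iff_not_dvd hp).2 hnd)
  obtain ⟨a, ha⟩ := exists_zpow_inverse hcop
  have hΨι : ∀ q : Qk, Ψ (ι q) = (ϕ q⁻¹) ^ Qk.index := by
    intro q
    have := Wq q (ι q) (fun k => by
      apply Subtype.ext
      rw [hc, hι]
      rfl)
    rw [hW] at this
    rw [hΨ, this]
  have hsup : Ψ.ker ⊔ Q' = ⊤ := by
    rw [eq_top_iff]
    intro u _
    obtain ⟨q0, hq0⟩ := Wrange 1 u
    have e : Ψ (ι (q0 ^ (-a))) = Ψ u := by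
      rw [hΨι, hΨ, ← hq0, zpow_neg, inv_inv, map_zpow, ← zpow_natCast, ← zpow_mul, mul_comm,
        zpow_mul, zpow_natCast, ha]
    have e2 : u = (u * (ι (q0 ^ (-a)))⁻¹) * ι (q0 ^ (-a)) := by group
    rw [e2]
    exact mul_mem (mem_sup_left (MonoidHom.mem_ker.mpr (by
      rw [map_mul, map_inv, e, mul_inv_cancel]))) (mem_sup_right (hιQ _))
  have hker : Ψ.ker = ⊤ :=
    frattini_nongenerating (eq_top_iff.mpr (hsup ▸ sup_le_sup_left h _))
  intro x hx
  have hxK : (x : G) ∈ K := hx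
  have hq : ι ⟨⟨x.1, hxK⟩, x.2⟩ = x := Subtype.ext (hι _)
  have h1 : Ψ x = 1 := by
    have : x ∈ Ψ.ker := hker ▸ mem_top x
    exact this
  rw [← hq, hΨι] at h1
  have h2 := ha (ϕ (⟨⟨x.1, hxK⟩, x.2⟩ : Qk)⁻¹)
  rw [h1, one_zpow, map_inv, eq_comm, inv_eq_one] at h2
  have h3 := hϕ ⟨⟨x.1, hxK⟩, x.2⟩
  rw [h2, hq] at h3
  exact (QuotientGroup.eq_one_iff x).mp h3.symm

end Cfsg.Agent.Lib.Helper2
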